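import Cfsg.Agent.ConwayType.Main

/-!
# Finite facts for an orthogonal pair of minus type spaces inside the eight dimensional space
-/

set_option autoImplicit false
set_option maxRecDepth 100000

namespace CfsgLib.ConwayFive

open CfsgLib.ConwayType

/-- A basis of the first space. -/
def eA : List V8 := [1, 2, 12, 52].map mk8

/-- A basis of its orthogonal. -/
def eB : List V8 := [28, 44, 64, 128].map mk8

/-- The singular points of the first space. -/
def pA : List V8 := [1, 2, 15, 55, 59].map mk8

/-- The singular points of the orthogonal. -/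
def pB : List V8 := [64, 128, 220, 236, 240].map mk8

/-- The finite facts used for either of the spaces: `E` spans one of them, `S` lists the singular
points of the other. -/
structure SideData (E S : List V8) : Prop where
  nodup : S.Nodup
  len : S.length = 5
  mem_iff : ∀ v : V8, v ∈ S ↔ q8 v = false ∧ v ≠ 0 ∧ ∀ e ∈ E, b8 v e = false
  root : ∀ a ∈ S, ∀ b ∈ S, a ≠ b → q8 (a + b) = true ∧ rf (a + b) a = b ∧ rf (a + b) b = a ∧
    (∀ c ∈ S, c ≠ a → c ≠ b → rf (a + b) c = c) ∧ ∀ e ∈ E, rf (a + b) e = e
  span : ∀ v : V8, ∃ k ∈ List.range 512, bitsum (S ++ E) k = v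
  basic : ∃ a ∈ S, ∃ b ∈ S, a ≠ b ∧ b8 (a + b) s0 = false
  dual : ∀ f0 f1 f2 f3 : Bool, ∃ v : V8, (∃ k ∈ List.range 16, bitsum E k = v) ∧
    E.map (b8 v) = [f0, f1, f2, f3]

theorem sideA : SideData eA pB where
  nodup := by decide +kernel
  len := by decide +kernel
  mem_iff := by decide +kernel
  root := by decide +kernel
  span := by decide +kernel
  basic := by decide +kernel
  dual := by decide +kernel

theorem sideB : SideData eB pA where
  nodup := by decide +kernel
  len := by decide +kernel
  mem_iff := by decide +kernel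
  root := by decide +kernel
  span := by decide +kernel
  basic := by decide +kernel
  dual := by decide +kernel

/-- A reflection does not act on the orthogonal of `s0` and `d0` as an element of the Sylow group. -/
theorem rf_code : ∀ r : V8, q8 r = true → b8 r s0 = false → codeU (rf r) ∉ tList := by
  decide +kernel

/-- The projection on the first space. -/
def prA (v : V8) : V8 :=
  sm (b8 v (mk8 2)) (mk8 1) + sm (b8 v (mk8 1)) (mk8 2) + sm (b8 v (mk8 52)) (mk8 12) +
    sm (b8 v (mk8 12)) (mk8 52)

theorem prA_eq_iff : ∀ v : V8, prA v = v ↔ ∀ e ∈ eB, b8 v e = false := by decide +kernel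

theorem prA_zero_iff : ∀ v : V8, prA v = 0 ↔ ∀ e ∈ eA, b8 v e = false := by decide +kernel

theorem prA_eA : ∀ e ∈ eA, prA e = e := by decide +kernel

theorem prA_eB : ∀ e ∈ eB, prA e = 0 := by decide +kernel

theorem spanA : ∀ v : V8, prA v = v → ∃ k ∈ List.range 16, bitsum eA k = v := by decide +kernel

theorem spanB : ∀ v : V8, prA v = 0 → ∃ k ∈ List.range 16, bitsum eB k = v := by decide +kernel

theorem card_prA : (Finset.univ.filter fun v : V8 => prA v = v).card = 16 := by decide +kernel

/-- The orthogonal of the first space lies in the orthogonal of `s0` and `d0`. -/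
theorem inU_of_prA : ∀ v : V8, prA v = 0 → InU v := by decide +kernel

theorem prA_of_orth : ∀ v : V8, InU v → b8 v aN = false → b8 v uN = false → prA v = 0 := by
  decide +kernel

theorem eB_facts : ∀ e ∈ eB, InU e ∧ b8 e aN = false ∧ b8 e uN = false ∧ b8 e s0 = false := by
  decide +kernel

theorem eA_facts : s0 ∈ eA ∧ d0 ∈ eA ∧ aN ∈ eA ∧ uN ∈ eA := by decide +kernel

theorem mk8_bits : ∀ v : V8, mk8 v.bits = v := by decide +kernel

end CfsgLib.ConwayFive
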