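import Cfsg.Agent.ConwayFive.Bits

/-!
# Normalising the fixed space of the element of order five
-/

set_option autoImplicit false

namespace CfsgLib.ConwayFive

open CfsgLib.ConwayType

/-- An element of order five in standard position. -/
structure Five {G : Type*} [Group G] (z : G) (Q : Subgroup G) (π : G → V8) (P : Subgroup G)
    (s b : G) : Prop where
  frame : Frame z Q π P s
  comm_z : b * z = z * b
  order : orderOf b = 5
  fix_iff : ∀ v, frame.data.act b v = v ↔ prA v = v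

variable {G : Type*} [Group G] {z : G} {Q : Subgroup G} {π : G → V8}

/-- For odd order, fixing modulo `z` is fixing. -/
theorem fix_comm (D : Data z Q π) {b x : G} (hbz : b * z = z * b) (hb : b ^ 5 = 1) (hx : x ∈ Q) :
    D.act b (π x) = π x ↔ b * x = x * b := by
  rw [D.act_π hbz hx]
  constructor
  · intro h
    rcases D.eq_or_eq_of_π_eq hx (D.sub.conj_mem hbz hx) h.symm with e | e
    · exact mul_inv_eq_iff_eq_mul.1 e
    · have h2 : Commute (b ^ 2) x := by
        refine mul_inv_eq_iff_eq_mul.1 ?_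
        calc b ^ 2 * x * (b ^ 2)⁻¹ = b * (b * x * b⁻¹) * b⁻¹ := by rw [pow_two]; group
          _ = b * (z * x) * b⁻¹ := by rw [e]
          _ = (b * z * b⁻¹) * (b * x * b⁻¹) := by group
          _ = x := by
            rw [mul_inv_eq_iff_eq_mul.2 hbz, e, ← mul_assoc, D.sub.mul_self, one_mul]
      have h6 := h2.pow_left 3
      rw [← pow_mul, show 2 * 3 = 5 + 1 from rfl, pow_succ, hb, one_mul] at h6
      exact h6.eq
  · intro h
    rw [mul_inv_eq_iff_eq_mul.2 h]

/-- A minus type space of dimension four can be moved to the standard one. -/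
theorem exists_std [Finite G] {s : G} {P : Subgroup G} (F : Frame z Q π P s) (W : Finset V8)
    (hadd : ∀ u ∈ W, ∀ v ∈ W, u + v ∈ W) (hcard : W.card = 16)
    (hnd : ∀ v ∈ W, v ≠ 0 → ∃ w ∈ W, b8 v w = true)
    (hts : ∀ u ∈ W, ∀ v ∈ W, u ≠ 0 → v ≠ 0 → u ≠ v → q8 u = false → q8 v = false → b8 u v = true) :
    ∃ c, c * z = z * c ∧ ∀ v, v ∈ W ↔ prA (F.data.act c v) = F.data.act c v := by
  classical
  have h0 : (0 : V8) ∈ W := by
    obtain ⟨a, ha⟩ := Finset.card_pos.1 (by omega : 0 < W.card)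
    simpa [add_self8] using hadd a ha a ha
  have hsm : ∀ (i : Bool) {v : V8}, v ∈ W → sm i v ∈ W := fun i v hv => by
    cases i
    · exact h0
    · exact hv
  have pick : ∀ T : Finset V8, T.card < 16 → ∃ w ∈ W, w ∉ T := fun T hT =>
    Finset.exists_mem_notMem_of_card_lt_card (by omega)
  -- a singular point
  obtain ⟨s', hs', hs'0, hs'q⟩ : ∃ v ∈ W, v ≠ 0 ∧ q8 v = false := by
    obtain ⟨v, hv, hv0⟩ := pick {0} (by simp)
    rw [Finset.mem_singleton] at hv0
    cases hq : q8 v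
    · exact ⟨v, hv, hv0, hq⟩
    obtain ⟨u, hu, hu0, huv, hvu⟩ : ∃ u ∈ W, u ≠ 0 ∧ u ≠ v ∧ b8 v u = false := by
      obtain ⟨u1, hu1, h1⟩ := pick {0, v} (lt_of_le_of_lt Finset.card_le_two (by norm_num))
      simp only [Finset.mem_insert, Finset.mem_singleton, not_or] at h1
      cases hb1 : b8 v u1
      · exact ⟨u1, hu1, h1.1, h1.2, hb1⟩
      obtain ⟨u2, hu2, h2⟩ := pick {0, v, u1, u1 + v} (lt_of_le_of_lt Finset.card_le_four (by norm_num))
      simp only [Finset.mem_insert, Finset.mem_singleton, not_or] at h2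
      cases hb2 : b8 v u2
      · exact ⟨u2, hu2, h2.1, h2.2.1, hb2⟩
      refine ⟨u1 + u2, hadd _ hu1 _ hu2, fun e => h2.2.2.1 (eq_of_add_eq_zero8 e).symm,
        fun e => h2.2.2.2 ?_, by rw [b8_add_right, hb1, hb2]; rfl⟩
      rw [← e, ← add_assoc, add_self8, zero_add]
    cases hqu : q8 u
    · exact ⟨u, hu, hu0, hqu⟩
    · exact ⟨u + v, hadd _ hu _ hv, fun e => huv (eq_of_add_eq_zero8 e), by
        rw [q8_add, hqu, hq, b8_comm u v, hvu]; rfl⟩
  -- its partner
  obtain ⟨d', hd', hd'b, hd'q⟩ : ∃ d ∈ W, b8 d s' = true ∧ q8 d = false := by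
    obtain ⟨w, hw, hwb⟩ := hnd s' hs' hs'0
    rw [b8_comm] at hwb
    cases hq : q8 w
    · exact ⟨w, hw, hwb, hq⟩
    · exact ⟨w + s', hadd _ hw _ hs', by rw [b8_add_left, hwb, b8_self]; rfl,
        by rw [q8_add, hq, hs'q, hwb]; rfl⟩
  -- the projection on their orthogonal
  obtain ⟨pj, hpj⟩ : ∃ pj : V8 → V8, ∀ w, pj w = w + sm (b8 w d') s' + sm (b8 w s') d' :=
    ⟨_, fun _ => rfl⟩
  have hpjW : ∀ w ∈ W, pj w ∈ W := fun w hw => by
    rw [hpj]; exact hadd _ (hadd _ hw _ (hsm _ hs')) _ (hsm _ hd')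
  have hpjs : ∀ w, b8 (pj w) s' = false ∧ b8 (pj w) d' = false := fun w => by
    rw [hpj]
    simp only [b8_add_left, b8_sm_left, b8_self, hd'b, b8_comm s' d']
    cases b8 w d' <;> cases b8 w s' <;> simp
  have hns : ∀ u ∈ W, u ≠ 0 → b8 u s' = false → b8 u d' = false → q8 u = true := by
    intro u hu hu0 h1 h2
    cases hq : q8 u
    · have hne : u ≠ s' := fun e => by rw [e, b8_comm, hd'b] at h2; exact Bool.noConfusion h2
      rw [hts u hu s' hs' hu0 hs'0 hne hq hs'q] at h1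
      exact Bool.noConfusion h1
    · rfl
  obtain ⟨x, hx, hx0⟩ : ∃ x ∈ W, pj x ≠ 0 := by
    obtain ⟨w, hw, h1⟩ := pick {0, s', d', s' + d'} (lt_of_le_of_lt Finset.card_le_four (by norm_num))
    simp only [Finset.mem_insert, Finset.mem_singleton, not_or] at h1
    refine ⟨w, hw, fun e => ?_⟩
    rw [hpj, add_assoc] at e
    have e' := eq_of_add_eq_zero8 e
    obtain ⟨n1, n2, n3, n4⟩ := h1
    revert e'
    cases b8 w d' <;> cases b8 w s' <;> simp [sm, n1, n2, n3, n4]
  obtain ⟨⟨hxs, hxd⟩, hxW⟩ := And.intro (hpjs x) (hpjW x hx)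
  obtain ⟨w, hw, hwb⟩ := hnd _ hxW hx0
  obtain ⟨⟨hys, hyd⟩, hyW⟩ := And.intro (hpjs w) (hpjW w hw)
  have hxy : b8 (pj x) (pj w) = true := by
    conv_lhs => arg 2; rw [hpj]
    rw [b8_add_right, b8_add_right, b8_sm_right, b8_sm_right, hwb, hxs, hxd]
    simp
  have hxq := hns _ hxW hx0 hxs hxd
  have hyq := hns _ hyW (fun e => by rw [e, b8_comm, b8_zero_left] at hxy; exact Bool.noConfusion hxy)
    hys hyd
  -- move the singular point, then the anisotropic pair
  obtain ⟨c1, hc1, hc1s⟩ := F.data.exists_move hs'q hs'0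
  have i1 := F.data.act_iso hc1
  have ox : b8 (F.data.act c1 (pj x)) s0 = false := by rw [← hc1s, i1.polar, hxs]
  have oy : b8 (F.data.act c1 (pj w)) s0 = false := by rw [← hc1s, i1.polar, hys]
  obtain ⟨n, hn⟩ := F.exists_moves_AN (A := pU (F.data.act c1 (pj x)))
    (u := pU (F.data.act c1 (pj w))) (pU_pU _) (pU_pU _) (by rw [q8_pU _ ox, i1.quad, hxq])
    (by rw [q8_pU _ oy, i1.quad, hyq]) (by rw [b8_pU ox oy, i1.polar, hxy])
  obtain ⟨hmz, hms, hmA, hmu⟩ := F.moves_inv std_AN.1 std_AN.2.1 hn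
  have i2 := F.data.act_iso hmz
  have hs2 := F.act_s hmz hms
  rw [i2.pU_map_pU hs2 ox, ← F.data.act_mul hmz hc1] at hmA
  rw [i2.pU_map_pU hs2 oy, ← F.data.act_mul hmz hc1] at hmu
  set c := n⁻¹ * c1 with hcdef
  have hcz : c * z = z * c := (Commute.mul_left hmz hc1).eq
  have ic := F.data.act_iso hcz
  have hcs : F.data.act c s' = s0 := by rw [hcdef, F.data.act_mul hmz hc1, hc1s, hs2]
  have hWA : ∀ v ∈ W, b8 v s' = false → ∃ u ∈ W, F.data.act c u = pU (F.data.act c v) := by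
    intro v hv hvs
    have ho : b8 (F.data.act c v) s0 = false := by rw [← hcs, ic.polar, hvs]
    rcases eq_pU_add _ ho with e | e
    · exact ⟨v, hv, e⟩
    · exact ⟨v + s', hadd _ hv _ hs', by
        rw [ic.add, hcs]; conv_lhs => rw [e, add_add_cancel8]⟩
  obtain ⟨A, hA, hAe⟩ := hWA _ hxW hxs
  obtain ⟨U, hU, hUe⟩ := hWA _ hyW hys
  rw [hmA] at hAe
  rw [hmu] at hUe
  -- adjust the partner
  obtain ⟨e, he⟩ : ∃ e, e = d' + sm (b8 (F.data.act c d') uN) A + sm (b8 (F.data.act c d') aN) U :=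
    ⟨_, rfl⟩
  have heW : e ∈ W := he ▸ hadd _ (hadd _ hd' _ (hsm _ hA)) _ (hsm _ hU)
  have hd2 : b8 (F.data.act c d') s0 = true := by rw [← hcs, ic.polar, hd'b]
  obtain ⟨hT1, hT2, -, -, hT5, -, -, -⟩ := std_AN
  obtain ⟨f1, f2⟩ : b8 (F.data.act c e) aN = false ∧ b8 (F.data.act c e) uN = false := by
    rw [he]
    simp only [ic.add, ic.map_sm, hAe, hUe, b8_add_left, b8_sm_left, b8_self, b8_comm uN aN, hT5]
    cases b8 (F.data.act c d') aN <;> cases b8 (F.data.act c d') uN <;> simp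
  have f3 : b8 (F.data.act c e) s0 = true := by
    rw [he]
    simp only [ic.add, ic.map_sm, hAe, hUe, b8_add_left, b8_sm_left, hd2, (inU_orth _ hT1).1,
      (inU_orth _ hT2).1]
    simp
  obtain ⟨d3, hd3, g1, g2, g3, g4⟩ : ∃ d3 ∈ W, b8 (F.data.act c d3) aN = false ∧
      b8 (F.data.act c d3) uN = false ∧ b8 (F.data.act c d3) s0 = true ∧
      q8 (F.data.act c d3) = false := by
    cases hq : q8 (F.data.act c e)
    · exact ⟨e, heW, f1, f2, f3, hq⟩
    · refine ⟨e + s', hadd _ heW _ hs', ?_, ?_, ?_, ?_⟩ <;>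
        simp only [ic.add, hcs, b8_add_left, q8_add, f1, f2, f3, hq, b8_self, q8_s0,
          b8_comm s0 aN, b8_comm s0 uN, (inU_orth _ hT1).1, (inU_orth _ hT2).1] <;> rfl
  obtain ⟨u, hu⟩ : ∃ u, u = pU (F.data.act c d3) := ⟨_, rfl⟩
  have hd3e := d0_image _ g4 g3
  rw [← hu] at hd3e
  have huU : InU u := hu ▸ pU_pU _
  have hua : b8 aN u = false ∧ b8 uN u = false := by
    rw [hd3e] at g1 g2
    simp only [b8_add_left, b8_sm_left, b8_comm d0, b8_comm s0, (inU_orth _ hT1).1, (inU_orth _ hT1).2,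
      (inU_orth _ hT2).1, (inU_orth _ hT2).2, Bool.and_false, Bool.xor_false, Bool.false_xor] at g1 g2
    exact ⟨by rw [b8_comm]; exact g1, by rw [b8_comm]; exact g2⟩
  obtain ⟨w', hw', hw'z, hw'u⟩ := F.exists_ups huU
  have hsd : sie u d0 = F.data.act c d3 := by
    rw [hd3e, sie, show b8 d0 s0 = true from by decide, b8_comm d0 u, (inU_orth _ huU).2]
    show d0 + (u + sm (q8 u) s0) + 0 = _
    rw [add_zero, add_assoc]
  have hwi : w'⁻¹ * z = z * w'⁻¹ := (Commute.inv_left hw'z).eq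
  have back : ∀ v, sie u v = v → F.data.act w'⁻¹ v = v := fun v hv => by
    conv_lhs => rw [← hv, ← hw'u, ← F.act_W hw' hw'z]
    exact (F.data.act_cancel hw'z v).1
  refine ⟨w'⁻¹ * c, (Commute.mul_left hwi hcz).eq, ?_⟩
  have hS : ∀ v ∈ eA, ∃ a ∈ W, F.data.act (w'⁻¹ * c) a = v := by
    intro v hv
    have hv' : v = s0 ∨ v = d0 ∨ v = aN ∨ v = uN := by
      revert v
      decide +kernel
    rcases hv' with rfl | rfl | rfl | rfl
    · exact ⟨s', hs', by rw [F.data.act_mul hwi hcz, hcs, back _ (sie_fixed (by decide) (by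
        rw [b8_comm]; exact (inU_orth _ huU).1))]⟩
    · exact ⟨d3, hd3, by
        rw [F.data.act_mul hwi hcz, ← hsd, ← hw'u, ← F.act_W hw' hw'z, (F.data.act_cancel hw'z _).1]⟩
    · exact ⟨A, hA, by rw [F.data.act_mul hwi hcz, hAe, back _ (sie_fixed (inU_orth _ hT1).1 hua.1)]⟩
    · exact ⟨U, hU, by rw [F.data.act_mul hwi hcz, hUe, back _ (sie_fixed (inU_orth _ hT2).1 hua.2)]⟩
  have hcz' : (w'⁻¹ * c) * z = z * (w'⁻¹ * c) := (Commute.mul_left hwi hcz).eq
  have ifin := F.data.act_iso hcz'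
  have hinjf : Function.Injective (F.data.act (w'⁻¹ * c)) := fun a b h => by
    rw [← (F.data.act_cancel hcz' a).1, h, (F.data.act_cancel hcz' b).1]
  have hsub : (Finset.univ.filter fun v : V8 => prA v = v) ⊆ W.image (F.data.act (w'⁻¹ * c)) := by
    intro v hv
    obtain ⟨k, -, rfl⟩ := spanA v (Finset.mem_filter.1 hv).2
    have : ∀ (l : List V8) (k : ℕ), (∀ e ∈ l, e ∈ W.image (F.data.act (w'⁻¹ * c))) →
        bitsum l k ∈ W.image (F.data.act (w'⁻¹ * c)) := by
      intro l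
      induction l with
      | nil => exact fun k _ => Finset.mem_image.2 ⟨0, h0, ifin.zero⟩
      | cons a l ih =>
        intro k h
        obtain ⟨b', hb', hbe⟩ := Finset.mem_image.1 (ih (k / 2) fun e he => h e (List.mem_cons_of_mem a he))
        obtain ⟨a', ha', hae⟩ := Finset.mem_image.1 (h a List.mem_cons_self)
        rw [bitsum]
        split
        · exact Finset.mem_image.2 ⟨a' + b', hadd _ ha' _ hb', by rw [ifin.add, hae, hbe]⟩
        · exact Finset.mem_image.2 ⟨b', hb', by rw [zero_add, hbe]⟩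
    exact this eA k fun e he => Finset.mem_image.2 (hS e he)
  have heq := Finset.eq_of_subset_of_card_le hsub (by
    rw [card_prA, Finset.card_image_of_injective _ hinjf, hcard])
  intro v
  have h := Finset.ext_iff.1 heq (F.data.act (w'⁻¹ * c) v)
  rw [Finset.mem_filter, hinjf.mem_finset_image] at h
  simpa using h.symm

/-- An element of order five with such a fixed space can be put in standard position. -/
theorem exists_five [Finite G] (D : Data z Q π) {b : G} (hbz : b * z = z * b) (hb : orderOf b = 5)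
    (hcard : Nat.card ↥(Q ⊓ Subgroup.centralizer ({b} : Set G)) = 32)
    (hcen : ∀ x ∈ Q ⊓ Subgroup.centralizer ({b} : Set G),
      (∀ y ∈ Q ⊓ Subgroup.centralizer ({b} : Set G), x * y = y * x) → x = 1 ∨ x = z)
    (hts : ∀ x ∈ Q ⊓ Subgroup.centralizer ({b} : Set G), ∀ y ∈ Q ⊓ Subgroup.centralizer ({b} : Set G),
      x * x = 1 → y * y = 1 → x * y = y * x → π x ≠ 0 → π y ≠ 0 → π x = π y) :
    ∃ P s c, c * z = z * c ∧ Five z Q π P s (c * b * c⁻¹) := by
  classical
  obtain ⟨P, s, F⟩ := exists_frame D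
  have hb5 : b ^ 5 = 1 := hb ▸ pow_orderOf_eq_one b
  set W := Finset.univ.filter fun v => F.data.act b v = v with hW
  have hmem : ∀ {v}, v ∈ W ↔ F.data.act b v = v := fun {v} => by simp [hW]
  have hsec : ∀ {v}, v ∈ W → F.data.sec v ∈ Q ⊓ Subgroup.centralizer ({b} : Set G) := fun {v} hv =>
    ⟨F.data.sec_mem v, Subgroup.mem_centralizer_singleton_iff.2 ((fix_comm F.data hbz hb5
      (F.data.sec_mem v)).1 (by rw [F.data.π_sec]; exact hmem.1 hv)).symm⟩
  have hπW : ∀ {x}, x ∈ Q ⊓ Subgroup.centralizer ({b} : Set G) → π x ∈ W := fun {x} hx =>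
    hmem.2 ((fix_comm F.data hbz hb5 hx.1).2 (Subgroup.mem_centralizer_singleton_iff.1 hx.2).symm)
  have hzm : ∀ i : Bool, (if i then z else 1) ∈ Q ⊓ Subgroup.centralizer ({b} : Set G) := fun i => by
    cases i
    · exact one_mem _
    · exact ⟨F.data.sub.z_mem, Subgroup.mem_centralizer_singleton_iff.2 hbz.symm⟩
  let f : W × Bool → ↥(Q ⊓ Subgroup.centralizer ({b} : Set G)) := fun p =>
    ⟨(if p.2 then z else 1) * F.data.sec p.1.1, mul_mem (hzm _) (hsec p.1.2)⟩
  have hπf : ∀ p, π (f p : G) = p.1.1 := fun p => by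
    show π ((if p.2 then z else 1) * F.data.sec p.1.1) = _
    rw [F.data.map_mul _ (hzm p.2).1 _ (F.data.sec_mem _), F.data.π_sec]
    cases p.2 <;> simp [F.data.π_z, F.data.π_one]
  have hf : Function.Bijective f := by
    refine ⟨fun p p' h => ?_, fun x => ?_⟩
    · have h1 : p.1 = p'.1 := Subtype.ext (by rw [← hπf p, h, hπf])
      have h2 : (if p.2 then z else 1) = (if p'.2 then z else 1) := by
        have h3 : (if p.2 then z else 1) * F.data.sec p.1.1 =
            (if p'.2 then z else 1) * F.data.sec p'.1.1 := congrArg Subtype.val h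
        rw [h1] at h3
        exact mul_right_cancel h3
      refine Prod.ext h1 ?_
      have := F.data.sub.ne_one
      revert h2
      cases p.2 <;> cases p'.2 <;> simp [this, this.symm]
    · obtain ⟨v, hv⟩ : ∃ v, v = π (x : G) := ⟨_, rfl⟩
      have hvW : v ∈ W := hv ▸ hπW x.2
      rcases F.data.eq_or_eq_of_π_eq (F.data.sec_mem v) x.2.1 (by rw [F.data.π_sec, hv]) with e | e
      · exact ⟨(⟨v, hvW⟩, false), Subtype.ext (by simp [f, e])⟩
      · exact ⟨(⟨v, hvW⟩, true), Subtype.ext (by simp [f, e])⟩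
  rw [← Nat.card_congr (Equiv.ofBijective f hf), Nat.card_prod, Nat.card_eq_finsetCard,
    Nat.card_eq_fintype_card (α := Bool), Fintype.card_bool] at hcard
  have hnd : ∀ v ∈ W, v ≠ 0 → ∃ w ∈ W, b8 v w = true := by
    intro v hv hv0
    by_contra hno
    push_neg at hno
    rcases hcen _ (hsec hv) fun y hy => by
      rw [F.data.commute_iff (F.data.sec_mem v) hy.1, F.data.π_sec]
      simpa using hno _ (hπW hy) with e | e
    · exact hv0 (by rw [← F.data.π_sec v, e, F.data.π_one])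
    · exact hv0 (by rw [← F.data.π_sec v, e, F.data.π_z])
  have hTS : ∀ u ∈ W, ∀ v ∈ W, u ≠ 0 → v ≠ 0 → u ≠ v → q8 u = false → q8 v = false →
      b8 u v = true := by
    intro u hu v hv hu0 hv0 hne hqu hqv
    by_contra hb'
    rw [Bool.not_eq_true] at hb'
    apply hne
    rw [← F.data.π_sec u, ← F.data.π_sec v]
    refine hts _ (hsec hu) _ (hsec hv) ((F.data.sq _ (F.data.sec_mem u)).2 ?_)
      ((F.data.sq _ (F.data.sec_mem v)).2 ?_)
      ((F.data.commute_iff (F.data.sec_mem u) (F.data.sec_mem v)).2 ?_) ?_ ?_ <;>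
    simp only [F.data.π_sec] <;> assumption
  obtain ⟨c, hc, hcW⟩ := exists_std F W (fun u hu v hv => hmem.2 (by
      rw [(F.data.act_iso hbz).add, hmem.1 hu, hmem.1 hv]))
    (by omega) hnd hTS
  refine ⟨P, s, c, hc, ⟨F, ((Commute.mul_left hc hbz).mul_left (Commute.inv_left hc)).eq, ?_,
    fun v => ?_⟩⟩
  · rw [← hb]
    exact orderOf_injective (MulAut.conj c).toMonoidHom (MulAut.conj c).injective b
  · rw [F.data.act_conj hc hbz]
    have h := hcW (F.data.act c⁻¹ v)
    rw [hmem, (F.data.act_cancel hc v).2] at h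
    rw [← h]
    constructor
    · intro e
      have := congrArg (F.data.act c⁻¹) e
      rwa [(F.data.act_cancel hc _).1] at this
    · intro e
      rw [e, (F.data.act_cancel hc v).2]

end CfsgLib.ConwayFive
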