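import Cfsg.Agent.ConwayFive.Sides
import Cfsg.Agent.ConwayFive.Setup

/-!
# The centralizer of the standard element of order five inside `C(z)`
-/

set_option autoImplicit false

namespace CfsgLib.ConwayFive

open CfsgLib.ConwayType CfsgLib.LargeExtraspecial

theorem b8_bitsum {v : V8} : ∀ (l : List V8) (n : ℕ), (∀ e ∈ l, b8 v e = false) →
    b8 v (bitsum l n) = false
  | [], _, _ => by rw [bitsum, b8_comm, b8_zero_left]
  | a :: l, n, h => by
    rw [bitsum, b8_add_right, b8_bitsum l (n / 2) fun e he => h e (List.mem_cons_of_mem a he)]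
    split <;> simp [h a List.mem_cons_self, b8_comm v 0, b8_zero_left]

theorem prA_bitsum_eB (n : ℕ) : prA (bitsum eB n) = 0 := by
  refine (prA_zero_iff _).2 fun e he => ?_
  rw [b8_comm]
  exact b8_bitsum _ _ ((prA_eq_iff e).1 (prA_eA e he))

theorem pB_span : ∀ e ∈ eB, ∃ k ∈ List.range 32, bitsum pB k = e := by decide +kernel

theorem lenA : eA.length = 4 := rfl

theorem lenB : eB.length = 4 := rfl

/-- The data on an element of `P` used with the element of order five. -/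
structure Moving {G : Type*} [Group G] (z s b : G) (P : Subgroup G) (p : G) : Prop where
  mem : p ∈ P
  sq : p * p = 1
  comm_b : p * b = b * p
  conj_z : p * z * p⁻¹ = s * z

namespace Five

variable {G : Type*} [Group G] {z s b : G} {Q P : Subgroup G} {π : G → V8}
  (hF : Five z Q π P s b)
include hF

/-- The centralizer of the preimage of the orthogonal of the fixed space. -/
abbrev H : Subgroup G := CE hF.frame.data eB

/-- The centralizer of the preimage of the fixed space. -/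
abbrev H1 : Subgroup G := CE hF.frame.data eA

theorem pow_five : b ^ 5 = 1 := hF.order ▸ pow_orderOf_eq_one b

theorem Q_mem_H {x : G} (hx : x ∈ Q) : x ∈ hF.H ↔ prA (π x) = π x :=
  (Q_mem_CE hF.frame.data hx).trans (prA_eq_iff _).symm

theorem Q_mem_H1 {x : G} (hx : x ∈ Q) : x ∈ hF.H1 ↔ prA (π x) = 0 :=
  (Q_mem_CE hF.frame.data hx).trans (prA_zero_iff _).symm

theorem Q_comm_b {x : G} (hx : x ∈ Q) : b * x = x * b ↔ prA (π x) = π x :=
  (fix_comm hF.frame.data hF.comm_z hF.pow_five hx).symm.trans (hF.fix_iff _)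

theorem b_mem_H1 : b ∈ hF.H1 := (mem_CE hF.frame.data).2 ⟨hF.comm_z, fun e he =>
  (hF.Q_comm_b (hF.frame.data.sec_mem e)).2 (by rw [hF.frame.data.π_sec]; exact prA_eA e he)⟩

theorem prA_s : prA (π s) = π s := by rw [hF.frame.π_s]; exact prA_eA _ eA_facts.1

theorem b_comm_s : b * s = s * b := (hF.Q_comm_b hF.frame.pair.mem).2 hF.prA_s

theorem s_mem_H : s ∈ hF.H := (hF.Q_mem_H hF.frame.pair.mem).2 hF.prA_s

theorem H1_comm_s {k : G} (hk : k ∈ hF.H1) : k * s = s * k := by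
  obtain ⟨n, -, hn⟩ := spanA _ hF.prA_s
  exact CE_comm hF.frame.data hk hF.frame.pair.mem hn.symm

theorem H1_fix {k : G} (hk : k ∈ hF.H1) {v : V8} (hv : prA v = v) : hF.frame.data.act k v = v := by
  obtain ⟨n, -, rfl⟩ := spanA v hv
  exact eq_on_bitsum (hF.frame.data.act_iso (CfsgLib.ConwayFive.comm_z _ hk)) isIso8_id
    (fun e he => CE_fix hF.frame.data hk he) n

theorem H_fix {h : G} (hh : h ∈ hF.H) {v : V8} (hv : prA v = 0) : hF.frame.data.act h v = v := by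
  obtain ⟨n, -, rfl⟩ := spanB v hv
  exact eq_on_bitsum (hF.frame.data.act_iso (CfsgLib.ConwayFive.comm_z _ hh)) isIso8_id
    (fun e he => CE_fix hF.frame.data hh he) n

omit hF in
/-- One side normalizes the other. -/
theorem conj_CE (D : Data z Q π) {E E' : List V8}
    (hspan : ∀ v, (∀ e ∈ E, b8 v e = false) → ∃ n, bitsum E' n = v)
    (horth : ∀ e' ∈ E', ∀ e ∈ E, b8 e' e = false) {k h : G} (hk : k ∈ CE D E) (hh : h ∈ CE D E') :
    k * h * k⁻¹ ∈ CE D E' := by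
  have hkz := CfsgLib.ConwayFive.comm_z D hk
  have hhz := CfsgLib.ConwayFive.comm_z D hh
  refine (mem_CE D).2 ⟨((Commute.mul_left hkz hhz).mul_left (Commute.inv_left hkz)).eq,
    fun e he => ?_⟩
  have hkiz : k⁻¹ * z = z * k⁻¹ := (Commute.inv_left hkz).eq
  have hy : k⁻¹ * D.sec e * k⁻¹⁻¹ ∈ Q := D.sub.conj_mem hkiz (D.sec_mem e)
  obtain ⟨n, hn⟩ := hspan (π (k⁻¹ * D.sec e * k⁻¹⁻¹)) fun a ha => by
    rw [← D.act_π hkiz (D.sec_mem e), D.π_sec, ← CE_fix D (inv_mem hk) ha, (D.act_iso hkiz).polar]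
    exact horth e he a ha
  have hc := CE_comm D hh hy hn.symm
  calc k * h * k⁻¹ * D.sec e = k * (h * (k⁻¹ * D.sec e * k⁻¹⁻¹)) * k⁻¹ := by group
    _ = k * (k⁻¹ * D.sec e * k⁻¹⁻¹ * h) * k⁻¹ := by rw [hc]
    _ = D.sec e * (k * h * k⁻¹) := by group

theorem conj_H {k h : G} (hk : k ∈ hF.H1) (hh : h ∈ hF.H) : k * h * k⁻¹ ∈ hF.H :=
  conj_CE hF.frame.data (fun v hv => by
      obtain ⟨n, -, hn⟩ := spanB v ((prA_zero_iff v).2 hv)
      exact ⟨n, hn⟩)
    (fun e he a ha => by rw [b8_comm]; exact (prA_eq_iff a).1 (prA_eA a ha) e he) hk hh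

theorem conj_H1 {k h : G} (hk : k ∈ hF.H1) (hh : h ∈ hF.H) : h * k * h⁻¹ ∈ hF.H1 :=
  conj_CE hF.frame.data (fun v hv => by
      obtain ⟨n, -, hn⟩ := spanA v ((prA_eq_iff v).2 hv)
      exact ⟨n, hn⟩)
    (fun e he a ha => (prA_eq_iff e).1 (prA_eA e he) a ha) hh hk

theorem mem_both {c : G} (h1 : c ∈ hF.H) (h2 : c ∈ hF.H1) : c = 1 ∨ c = z := by
  have hcQ : c ∈ Q := hF.frame.data.mem_of_act (CfsgLib.ConwayFive.comm_z _ h1) (sideB.ext
    (hF.frame.data.act_iso (CfsgLib.ConwayFive.comm_z _ h1)) isIso8_id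
    (fun e he => hF.H1_fix h2 ((prA_eq_iff e).2 ((sideB.mem_iff e).1 he).2.2))
    fun e he => CE_fix hF.frame.data h1 he)
  exact hF.frame.data.mem_of_π_zero hcQ
    (((hF.Q_mem_H hcQ).1 h1).symm.trans ((hF.Q_mem_H1 hcQ).1 h2))

/-- The two centralizers commute with each other. -/
theorem comm_H [Finite G] {h k : G} (hh : h ∈ hF.H) (hk : k ∈ hF.H1) : h * k = k * h := by
  have hkz : k * z = z * k := CfsgLib.ConwayFive.comm_z _ hk
  have hsign : ∀ x ∈ hF.H, ∃ e, (e = 1 ∨ e = z) ∧ x * k * x⁻¹ = e * k := fun x hx => by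
    refine ⟨x * k * x⁻¹ * k⁻¹, hF.mem_both ?_ (mul_mem (hF.conj_H1 hk hx) (inv_mem hk)), by group⟩
    rw [show x * k * x⁻¹ * k⁻¹ = x * (k * x⁻¹ * k⁻¹) by group]
    exact mul_mem hx (hF.conj_H hk (inv_mem hx))
  have hle : (⁅hF.H, hF.H⁆ : Subgroup G) ≤ Subgroup.centralizer ({k} : Set G) := by
    rw [Subgroup.commutator_le]
    intro x hx y hy
    rw [Subgroup.mem_centralizer_singleton_iff, commutatorElement_def]
    obtain ⟨e, he, hxe⟩ := hsign x hx
    obtain ⟨f, hf, hyf⟩ := hsign y hy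
    have hcen : ∀ {e : G}, (e = 1 ∨ e = z) → ∀ {w : G}, w * z = z * w → w * e = e * w := by
      rintro e (rfl | rfl) w hw
      · simp
      · exact hw
    have hee : ∀ {e : G}, (e = 1 ∨ e = z) → e * e = 1 := by
      rintro e (rfl | rfl)
      · simp
      · exact hF.frame.data.sub.mul_self
    have hxz := CfsgLib.ConwayFive.comm_z hF.frame.data hx
    have hyz := CfsgLib.ConwayFive.comm_z hF.frame.data hy
    have hef : f * e = e * f := by
      refine hcen he ?_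
      rcases hf with rfl | rfl
      · simp
      · rfl
    refine mul_inv_eq_iff_eq_mul.1 ?_
    have hxi : x⁻¹ * k * x = e * k := by
      have : x⁻¹ * (e * k) * x = k := by rw [← hxe]; group
      calc x⁻¹ * k * x = (e * e) * (x⁻¹ * k * x) := by rw [hee he, one_mul]
        _ = e * ((e * x⁻¹) * k * x) := by group
        _ = e * ((x⁻¹ * e) * k * x) := by rw [hcen he (Commute.inv_left hxz).eq]
        _ = e * k := by rw [mul_assoc x⁻¹ e k, this]
    have hyi : y⁻¹ * k * y = f * k := by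
      have : y⁻¹ * (f * k) * y = k := by rw [← hyf]; group
      calc y⁻¹ * k * y = (f * f) * (y⁻¹ * k * y) := by rw [hee hf, one_mul]
        _ = f * ((f * y⁻¹) * k * y) := by group
        _ = f * ((y⁻¹ * f) * k * y) := by rw [hcen hf (Commute.inv_left hyz).eq]
        _ = f * k := by rw [mul_assoc y⁻¹ f k, this]
    calc x * y * x⁻¹ * y⁻¹ * k * (x * y * x⁻¹ * y⁻¹)⁻¹
        = x * y * x⁻¹ * (y⁻¹ * k * y) * x * y⁻¹ * x⁻¹ := by group
      _ = x * y * ((x⁻¹ * f) * k * x) * y⁻¹ * x⁻¹ := by rw [hyi]; group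
      _ = x * y * (f * (x⁻¹ * k * x)) * y⁻¹ * x⁻¹ := by
        rw [hcen hf (Commute.inv_left hxz).eq]; group
      _ = x * (y * (f * e)) * k * y⁻¹ * x⁻¹ := by rw [hxi]; group
      _ = x * ((f * e) * y) * k * y⁻¹ * x⁻¹ := by
        rw [show y * (f * e) = (f * e) * y from
          (Commute.mul_right (hcen hf hyz) (hcen he hyz)).eq]
      _ = x * (f * e) * (y * k * y⁻¹) * x⁻¹ := by group
      _ = x * ((f * e) * f) * k * x⁻¹ := by rw [hyf]; group
      _ = x * e * k * x⁻¹ := by rw [hef, mul_assoc e f f, hee hf, mul_one]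
      _ = e * (x * k * x⁻¹) := by rw [hcen he hxz]; group
      _ = k := by rw [hxe, ← mul_assoc, hee he, one_mul]
  obtain ⟨c, hc, hcQ⟩ := exists_commutator hF.frame sideB lenB ⟨h, hh⟩
  have hcH : c ∈ hF.H := (Subgroup.commutator_le_self (hF.H)) hc
  obtain ⟨n, -, hn⟩ := spanA _ ((hF.Q_mem_H hcQ).1 (mul_mem (inv_mem hcH) hh))
  have h1 : Commute c k := Subgroup.mem_centralizer_singleton_iff.1 (hle hc)
  have h2 : Commute (c⁻¹ * h) k := (CE_comm hF.frame.data hk hcQ hn.symm).symm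
  have := h1.mul_left h2
  rwa [mul_inv_cancel_left] at this

theorem comm_b_H [Finite G] {h : G} (hh : h ∈ hF.H) : b * h = h * b :=
  (hF.comm_H hh hF.b_mem_H1).symm

theorem b_not_mem : b ∉ Q := fun h => by
  have h1 := orderOf_dvd_natCard (⟨b, h⟩ : Q)
  rw [Subgroup.orderOf_mk, hF.order, hF.frame.data.card] at h1
  norm_num at h1

/-- The centralizer of `b` in `C(z)`. -/
theorem decomp [Finite G] {g : G} (hgz : g * z = z * g) (hgb : g * b = b * g) :
    ∃ i : ℕ, ∃ h ∈ hF.H, g = b ^ i * h := by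
  classical
  have D := hF.frame.data
  have hiso := D.act_iso hgz
  have hW : ∀ {g : G}, g * z = z * g → g * b = b * g → ∀ v, prA v = v → prA (D.act g v) = D.act g v := by
    intro g hgz hgb v hv
    rw [← hF.fix_iff, ← D.act_mul hF.comm_z hgz, ← hgb, D.act_mul hgz hF.comm_z, (hF.fix_iff v).2 hv]
  have hgiz : g⁻¹ * z = z * g⁻¹ := (Commute.inv_left hgz).eq
  have hgib : g⁻¹ * b = b * g⁻¹ := (Commute.inv_left hgb).eq
  have hpt : ∀ v : Pt pB, D.act g v.1 ∈ pB := fun v => by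
    obtain ⟨h1, h2, h3⟩ := (sideA.mem_iff v.1).1 v.2
    refine (sideA.mem_iff _).2 ⟨by rw [hiso.quad, h1], fun e => h2 ?_, fun e he => ?_⟩
    · rw [← (D.act_cancel hgz v.1).1, e, (D.act_iso hgiz).zero]
    · obtain ⟨n, -, hn⟩ := spanA _ (hW hgiz hgib e (prA_eA e he))
      rw [← (D.act_cancel hgz e).2, hiso.polar, ← hn]
      exact b8_bitsum _ _ h3
  let σ : Pt pB → Pt pB := fun v => ⟨D.act g v.1, hpt v⟩
  let τ : Equiv.Perm (Pt pB) := ptHom D sideA ⟨b, hF.b_mem_H1⟩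
  have hτ5 : τ ^ 5 = 1 := by
    show ptHom D sideA ⟨b, hF.b_mem_H1⟩ ^ 5 = 1
    rw [← map_pow, show (⟨b, hF.b_mem_H1⟩ : CE D eA) ^ 5 = 1 from Subtype.ext hF.pow_five, map_one]
  have hτ1 : τ ≠ 1 := fun e => hF.b_not_mem ((ptHom_eq_one D sideA _).1 e)
  have : Fact (Nat.Prime 5) := ⟨Nat.prime_five⟩
  have hord : orderOf τ = 5 := orderOf_eq_prime hτ5 hτ1
  have hcard : Fintype.card (Pt pB) = 5 := sideA.card_pt
  have hcyc : τ.IsCycle := Equiv.Perm.isCycle_of_prime_order'' (by rw [hcard]; exact Nat.prime_five)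
    (by rw [hord, hcard])
  have hsupp : τ.support = Finset.univ := Finset.eq_univ_of_card _ (by
    rw [← hcyc.orderOf, hord, hcard])
  have hmove : ∀ v, τ v ≠ v := fun v => Equiv.Perm.mem_support.1 (by rw [hsupp]; exact Finset.mem_univ v)
  have hnon : Nonempty (Pt pB) := Fintype.card_pos_iff.1 (by rw [hcard]; norm_num)
  obtain ⟨a⟩ := hnon
  obtain ⟨i, hi⟩ := hcyc.exists_pow_eq (hmove a) (hmove (σ a))
  have happ : ∀ (j : ℕ) (v : Pt pB), ((τ ^ j) v).1 = D.act (b ^ j) v.1 := fun j v => by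
    show ((ptHom D sideA ⟨b, hF.b_mem_H1⟩ ^ j) v).1 = _
    rw [← map_pow]
    rfl
  have hbj : ∀ j : ℕ, b ^ j * z = z * b ^ j := fun j => (Commute.pow_left hF.comm_z j).eq
  have hall : ∀ v : Pt pB, D.act g v.1 = D.act (b ^ i) v.1 := fun v => by
    obtain ⟨j, hj⟩ := hcyc.exists_pow_eq (hmove a) (hmove v)
    rw [← hj, happ, ← D.act_mul hgz (hbj j), ← D.act_mul (hbj i) (hbj j),
      ((show Commute g b from hgb).pow_right j).eq, ((Commute.refl b).pow_pow i j).eq,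
      D.act_mul (hbj j) hgz, D.act_mul (hbj j) (hbj i)]
    congr 1
    rw [← happ, hi]
  obtain ⟨g', hg'⟩ : ∃ g', g' = (b ^ i)⁻¹ * g := ⟨_, rfl⟩
  have hbiz : (b ^ i)⁻¹ * z = z * (b ^ i)⁻¹ := (Commute.inv_left (hbj i)).eq
  have hg'z : g' * z = z * g' := hg' ▸ (Commute.mul_left hbiz hgz).eq
  have hg'b : g' * b = b * g' :=
    hg' ▸ (Commute.mul_left ((Commute.refl b).pow_left i).inv_left hgb).eq
  have hfix : ∀ e ∈ eB, D.act g' e = e := fun e he => by
    obtain ⟨k, -, rfl⟩ := pB_span e he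
    refine eq_on_bitsum (D.act_iso hg'z) isIso8_id (fun v hv => ?_) k
    rw [hg', D.act_mul hbiz hgz, hall ⟨v, hv⟩, (D.act_cancel (hbj i) v).1]
  obtain ⟨q, hq, ⟨n, hn⟩, hqg⟩ := exists_adjust D sideB lenB hg'z hfix
  have h1 : b * q = q * b := by
    have h := hF.comm_b_H hqg
    have e : b * q * g' = q * b * g' := by
      rw [mul_assoc, h, mul_assoc, hg'b, ← mul_assoc]
    exact mul_right_cancel e
  have h2 := (hF.Q_comm_b hq).1 h1
  rw [hn, prA_bitsum_eB] at h2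
  have hqH : q ∈ hF.H := (hF.Q_mem_H hq).2 (by rw [hn, ← h2]; decide)
  refine ⟨i, g', ?_, by rw [hg']; group⟩
  have := mul_mem (inv_mem hqH) hqg
  rwa [inv_mul_cancel_left] at this

/-- An element centralizing `b` permuting `z`, `s` and `z * s` cyclically. -/
theorem exists_cycle [Finite G] : ∃ g : G, g * b = b * g ∧ g * z * g⁻¹ = s ∧ g * s * g⁻¹ = z * s := by
  classical
  have d := hF.frame.pair
  obtain ⟨hR, -, φ, hφ, hsurj⟩ := d.main
  obtain ⟨a, haX, ha⟩ := hsurj (Equiv.swap 0 1 * Equiv.swap 1 2)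
  have hbC : b ∈ Subgroup.centralizer ({z, s} : Set G) := Subgroup.mem_centralizer_iff.2 fun y hy => by
    rcases hy with rfl | rfl
    · exact hF.comm_z.symm
    · exact hF.b_comm_s.symm
  have hbR : ∀ {r : G}, r ∈ d.R → b * r * b⁻¹ ∈ d.R := fun {r} hr => by
    rw [hR] at hr ⊢
    obtain ⟨h1, h2⟩ := Subgroup.mem_inf.1 hr
    exact Subgroup.mem_inf.2 ⟨d.C_conj_mem_X hbC h1, mul_mem (mul_mem hbC h2) (inv_mem hbC)⟩
  let A : Type _ := {x : G // x ∈ Q ⊔ P ∧ (a : G)⁻¹ * x ∈ d.R}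
  let f : A → A := fun x => ⟨b * x.1 * b⁻¹, d.C_conj_mem_X hbC x.2.1, by
    have e : (a : G)⁻¹ * (b * x.1 * b⁻¹) =
        ((a : G)⁻¹ * b * (a : G)⁻¹⁻¹ * b⁻¹) * (b * ((a : G)⁻¹ * x.1) * b⁻¹) := by group
    rw [e]
    exact mul_mem (d.comm_mem_R (inv_mem haX) hbC) (hbR x.2.2)⟩
  let σ : Equiv.Perm A := Equiv.ofBijective f (Finite.injective_iff_bijective.1 fun x y h =>
    Subtype.ext (mul_left_cancel (mul_right_cancel (congrArg Subtype.val h))))
  have hσ : ∀ x : A, (σ x).1 = b * x.1 * b⁻¹ := fun x => rfl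
  have hiter : ∀ (k : ℕ) (x : A), ((σ ^ k) x).1 = b ^ k * x.1 * (b ^ k)⁻¹ := by
    intro k
    induction k with
    | zero => intro x; simp
    | succ k ih =>
      intro x
      rw [pow_succ', Equiv.Perm.mul_apply, hσ, ih, pow_succ']
      group
  have h5 : σ ^ 5 ^ 1 = 1 := Equiv.ext fun x => Subtype.ext (by
    rw [hiter, pow_one, hF.pow_five]; simp)
  have hcard : Nat.card A = Nat.card d.R := Nat.card_congr
    { toFun := fun x => ⟨(a : G)⁻¹ * x.1, x.2.2⟩
      invFun := fun r => ⟨(a : G) * r.1, mul_mem haX (d.R_le_X r.2), by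
        rw [inv_mul_cancel_left]; exact r.2⟩
      left_inv := fun x => Subtype.ext (mul_inv_cancel_left _ _)
      right_inv := fun r => Subtype.ext (inv_mul_cancel_left _ _) }
  have : Fact (Nat.Prime 2) := ⟨Nat.prime_two⟩
  have : Fact (Nat.Prime 5) := ⟨Nat.prime_five⟩
  let _ : Fintype A := Fintype.ofFinite A
  obtain ⟨k, hk⟩ := d.isPGroup_R.exists_card_eq
  obtain ⟨x, hx⟩ := Equiv.Perm.exists_fixed_point_of_prime (p := 5) (n := 1) (α := A) (by
    rw [← Nat.card_eq_fintype_card, hcard, hk]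
    intro h
    have := Nat.prime_five.dvd_of_dvd_pow h
    norm_num at this) h5
  have hx' : b * x.1 * b⁻¹ = x.1 := congrArg Subtype.val hx
  have hrC : (a : G)⁻¹ * x.1 ∈ Subgroup.centralizer ({z, s} : Set G) := by
    exact d.R_le_C x.2.2
  have e0 := hφ a 0
  have e1 := hφ a 1
  rw [ha] at e0 e1
  have conj : ∀ {y : G}, y ∈ ({z, s} : Set G) → x.1 * y * x.1⁻¹ = (a : G) * y * (a : G)⁻¹ := by
    intro y hy
    have h := Subgroup.mem_centralizer_iff.1 hrC y hy
    calc x.1 * y * x.1⁻¹ = (a : G) * (((a : G)⁻¹ * x.1) * y) * x.1⁻¹ := by group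
      _ = (a : G) * (y * ((a : G)⁻¹ * x.1)) * x.1⁻¹ := by rw [h]
      _ = (a : G) * y * (a : G)⁻¹ := by group
  refine ⟨x.1, (mul_inv_eq_iff_eq_mul.1 hx').symm, ?_, ?_⟩
  · rw [conj (by simp)]
    exact e0.symm
  · rw [conj (by simp)]
    exact e1.symm

theorem exists_moving [Finite G] : ∃ p, Moving z s b P p := by
  have F := hF.frame
  obtain ⟨g, hgb, hgz, hgs⟩ := hF.exists_cycle
  obtain ⟨x, hx⟩ : ∃ x, x = F.data.sec d0 := ⟨_, rfl⟩
  have hxQ : x ∈ Q := hx ▸ F.data.sec_mem d0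
  have hπ : π x = d0 := hx ▸ F.data.π_sec d0
  have hxb : b * x = x * b := (hF.Q_comm_b hxQ).2 (by rw [hπ]; exact prA_eA _ eA_facts.2.1)
  have hxs : x * s ≠ s * x := fun e => by
    have h := (F.comm_s_iff hxQ).1 e
    rw [hπ] at h
    exact absurd h (by decide)
  have hxs' := F.data.sub.conj_of_not_commute hxQ F.pair.mem hxs
  have hxz' : x * z * x⁻¹ = z := mul_inv_eq_iff_eq_mul.2 (F.data.Q_comm hxQ)
  obtain ⟨g', hg', hP⟩ := F.pair.conj
  have hgP : g * x * g⁻¹ ∈ P := by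
    rw [← hP, ← F.data.sub.map_conj_eq (hgz.trans hg'.symm)]
    exact ⟨x, hxQ, rfl⟩
  refine ⟨g * x * g⁻¹, hgP, ?_, ?_, ?_⟩
  · rw [show g * x * g⁻¹ * (g * x * g⁻¹) = g * (x * x) * g⁻¹ by group,
      (F.data.sq x hxQ).2 (by rw [hπ]; decide)]
    group
  · exact ((Commute.mul_left hgb hxb.symm).mul_left (Commute.inv_left hgb)).eq
  · have hgzs : g * (z * s) * g⁻¹ = z := by
      rw [show g * (z * s) * g⁻¹ = (g * z * g⁻¹) * (g * s * g⁻¹) by group, hgz, hgs, ← mul_assoc,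
        F.s_comm, mul_assoc, F.s_mul_self, mul_one]
    calc g * x * g⁻¹ * z * (g * x * g⁻¹)⁻¹
        = g * x * g⁻¹ * (g * (z * s) * g⁻¹) * (g * x * g⁻¹)⁻¹ := by rw [hgzs]
      _ = g * ((x * z * x⁻¹) * (x * s * x⁻¹)) * g⁻¹ := by group
      _ = g * (z * (z * s)) * g⁻¹ := by rw [hxz', hxs']
      _ = g * s * g⁻¹ := by rw [← mul_assoc z z, F.data.sub.mul_self, one_mul]
      _ = s * z := by rw [hgs, F.s_comm]

/-- Elements of `C_P(z)` with the standard classes lie in `H`. -/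
theorem W_mem_H [Finite G] {w : G} (hw : w ∈ P) (hwz : w * z = z * w)
    (hu : ∀ e ∈ eB, b8 e (hF.frame.ups w) = false) : w ∈ hF.H := by
  refine (mem_CE hF.frame.data).2 ⟨hwz, fun e he => mul_inv_eq_iff_eq_mul.1 ?_⟩
  obtain ⟨hU, -, -, hs⟩ := eB_facts e he
  have hes := (hF.frame.comm_s_iff (hF.frame.data.sec_mem e)).2 (by rw [hF.frame.data.π_sec]; exact hs)
  have hc : cls π (hF.frame.data.sec e) = e := by rw [cls, hF.frame.data.π_sec]; exact hU
  rw [(hF.frame.comm_QW (hF.frame.data.sec_mem e) hes hw hwz).1, hc, hu e he, Frame.ee_false, one_mul]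

/-- An involution of `H` not conjugate to `z`. -/
theorem exists_other [Finite G] : ∃ t ∈ hF.H, orderOf t = 2 ∧ ¬ IsConj z t := by
  have F := hF.frame
  obtain ⟨hN1, hN2, hN3, hN4, hN5, -, hN7, -⟩ := std_AN
  obtain ⟨a, w, ha, has, hw, hwz, hA, hU, h2⟩ :=
    F.exists_type hN1 hN2 (by rw [hN3, hN5]) (by rw [hN4, hN5])
  refine ⟨a * w, mul_mem ((hF.Q_mem_H ha).2 ?_) (hF.W_mem_H hw hwz fun e he => ?_), ?_,
    F.not_isConj_AN ha has hw hwz hA hU h2⟩
  · refine (prA_eq_iff _).2 fun e he => ?_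
    obtain ⟨hU', hea, -, hes⟩ := eB_facts e he
    rw [← b8_pU_left ((F.comm_s_iff ha).1 has) hU', show pU (π a) = aN from hA, b8_comm, hea]
  · rw [hU]; exact (eB_facts e he).2.2.1
  · have : Fact (Nat.Prime 2) := ⟨Nat.prime_two⟩
    refine orderOf_eq_prime (by rw [pow_two, h2]) fun e => hN7 ?_
    have hwQ : w ∈ Q := by
      rw [show w = a⁻¹ by rw [eq_inv_of_mul_eq_one_right e]]; exact inv_mem ha
    rw [← hU, F.ups_memE (F.memE_of_mem hwQ hw)]

end Five

end CfsgLib.ConwayFive
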