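import Cfsg.Agent.ConwayFive.Centralizer
import Cfsg.Agent.HallJanko.Frame

/-!
# Groups in which an involution centralizer is a copy of the small centralizer
-/

set_option autoImplicit false

namespace CfsgLib.ConwayFive

open CfsgLib.ConwayType

namespace Five

variable {G : Type*} [Group G] {z s b : G} {Q P : Subgroup G} {π : G → V8}
  (hF : Five z Q π P s b)
include hF

theorem card_Q_H : Nat.card ↥(Q.subgroupOf hF.H) = 32 := by
  classical
  have D := hF.frame.data
  have hzz : ∀ i : Bool, (if i then z else 1) ∈ Q ∧ π (if i then z else 1) = 0 := fun i => by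
    cases i
    · exact ⟨one_mem _, D.π_one⟩
    · exact ⟨D.sub.z_mem, D.π_z⟩
  have hmem : ∀ (v : {v : V8 // prA v = v}) (i : Bool),
      (if i then z else 1) * D.sec v.1 ∈ hF.H := fun v i =>
    (hF.Q_mem_H (mul_mem (hzz i).1 (D.sec_mem _))).2 (by
      rw [D.map_mul _ (hzz i).1 _ (D.sec_mem _), (hzz i).2, zero_add, D.π_sec]; exact v.2)
  let f : {v : V8 // prA v = v} × Bool → ↥(Q.subgroupOf hF.H) := fun p =>
    ⟨⟨_, hmem p.1 p.2⟩, Subgroup.mem_subgroupOf.2 (mul_mem (hzz p.2).1 (D.sec_mem _))⟩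
  have hf : Function.Bijective f := by
    constructor
    · intro x y h
      have h' : (if x.2 then z else 1) * D.sec x.1.1 = (if y.2 then z else 1) * D.sec y.1.1 :=
        congrArg (fun t : ↥(Q.subgroupOf hF.H) => ((t : hF.H) : G)) h
      have h1 : x.1 = y.1 := Subtype.ext (by
        have := congrArg π h'
        rwa [D.map_mul _ (hzz _).1 _ (D.sec_mem _), D.map_mul _ (hzz _).1 _ (D.sec_mem _),
          (hzz _).2, (hzz _).2, zero_add, zero_add, D.π_sec, D.π_sec] at this)
      rw [h1] at h'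
      have h2 := mul_right_cancel h'
      refine Prod.ext h1 ?_
      revert h2
      have hne := D.sub.ne_one
      cases x.2 <;> cases y.2 <;> simp [hne, hne.symm]
    · intro q
      have hq : ((q : hF.H) : G) ∈ Q := Subgroup.mem_subgroupOf.1 q.2
      have hv := (hF.Q_mem_H hq).1 (q : hF.H).2
      rcases D.eq_or_eq_of_π_eq (D.sec_mem (π ((q : hF.H) : G))) hq (D.π_sec _) with e | e
      · exact ⟨(⟨_, hv⟩, false), Subtype.ext (Subtype.ext (by simp [f, ← e]))⟩
      · exact ⟨(⟨_, hv⟩, true), Subtype.ext (Subtype.ext (by simp [f, ← e]))⟩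
  rw [← Nat.card_congr (Equiv.ofBijective f hf), Nat.card_prod, Nat.card_eq_fintype_card,
    Nat.card_eq_fintype_card (α := Bool), Fintype.card_bool, Fintype.card_subtype, card_prA]

/-- A group with an involution whose centralizer is a copy of `H` has the small hypothesis. -/
theorem preCore_of_embedding [Finite G] {Γ : Type*} [Group Γ] (f : hF.H →* Γ)
    (hf : Function.Injective f) {ζ : Γ} (hζ : f ⟨z, z_mem_CE _⟩ = ζ)
    (hcent : ∀ c : Γ, c * ζ = ζ * c → ∃ h, f h = c) :
    HallJanko.PreCore ζ ((Q.subgroupOf hF.H).map f) := by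
  classical
  have D := hF.frame.data
  subst hζ
  have hcomm : ∀ h : hF.H, f h * f ⟨z, z_mem_CE _⟩ = f ⟨z, z_mem_CE _⟩ * f h := fun h => by
    rw [← map_mul, ← map_mul]
    exact congrArg f (Subtype.ext (CfsgLib.ConwayFive.comm_z _ h.2))
  refine
    { hz := ?_, hQC := ?_, hn := ?_, hcard := ?_, hzQ := ?_, hcenter := ?_, hcomm := ?_
      hsq := ?_, hCQ := ?_, hquot := ?_ }
  · rw [orderOf_injective f hf, Subgroup.orderOf_mk]
    exact D.sub.two
  · rintro _ ⟨q, -, rfl⟩
    exact hcomm q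
  · rintro c hc _ ⟨q, hq, rfl⟩
    obtain ⟨h, rfl⟩ := hcent c hc
    exact ⟨h * q * h⁻¹, Subgroup.mem_subgroupOf.2 (D.sub.conj_mem (CfsgLib.ConwayFive.comm_z _ h.2)
      (Subgroup.mem_subgroupOf.1 hq)), by rw [map_mul, map_mul, map_inv]⟩
  · rw [Subgroup.card_map_of_injective hf]
    exact hF.card_Q_H
  · exact ⟨_, Subgroup.mem_subgroupOf.2 D.sub.z_mem, rfl⟩
  · rintro _ ⟨q, hq, rfl⟩ hc
    have hqQ : (q : G) ∈ Q := Subgroup.mem_subgroupOf.1 hq
    have hq1 : prA (π (q : G)) = π (q : G) := (hF.Q_mem_H hqQ).1 q.2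
    have h0 : prA (π (q : G)) = 0 := (prA_zero_iff _).2 fun e he => by
      have he' : D.sec e ∈ hF.H :=
        (hF.Q_mem_H (D.sec_mem e)).2 (by rw [D.π_sec]; exact prA_eA e he)
      have h := hf (a₁ := q * ⟨_, he'⟩) (a₂ := ⟨_, he'⟩ * q) (by
        rw [map_mul, map_mul]
        exact hc _ ⟨⟨_, he'⟩, Subgroup.mem_subgroupOf.2 (D.sec_mem e), rfl⟩)
      have := (D.commute_iff hqQ (D.sec_mem e)).1 (congrArg Subtype.val h)
      rwa [D.π_sec] at this
    rcases D.mem_of_π_zero hqQ (hq1.symm.trans h0) with e | e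
    · exact Or.inl (by rw [show q = 1 from Subtype.ext e, map_one])
    · exact Or.inr (congrArg f (Subtype.ext e))
  · rintro _ ⟨x, hx, rfl⟩ _ ⟨y, hy, rfl⟩
    simp only [← map_mul]
    rcases D.sub.conj_eq (Subgroup.mem_subgroupOf.1 hx) (Subgroup.mem_subgroupOf.1 hy) with e | e
    · exact Or.inl (congrArg f (Subtype.ext (mul_inv_eq_iff_eq_mul.1 e)))
    · refine Or.inr (congrArg f (Subtype.ext ?_))
      show (x : G) * y = y * x * z
      rw [mul_inv_eq_iff_eq_mul.1 e, mul_assoc z,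
        ← D.Q_comm (mul_mem (Subgroup.mem_subgroupOf.1 hy) (Subgroup.mem_subgroupOf.1 hx))]
  · rintro _ ⟨x, hx, rfl⟩
    rw [← map_mul]
    rcases D.sub.sq_eq (Subgroup.mem_subgroupOf.1 hx) with e | e
    · exact Or.inl (by rw [show x * x = 1 from Subtype.ext e, map_one])
    · exact Or.inr (congrArg f (Subtype.ext e))
  · intro c hc hcq
    obtain ⟨h, rfl⟩ := hcent c hc
    refine ⟨h, Subgroup.mem_subgroupOf.2 ?_, rfl⟩
    have h1 : (h : G) ∈ hF.H1 := (mem_CE D).2 ⟨CfsgLib.ConwayFive.comm_z _ h.2, fun e he => by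
      have he' : D.sec e ∈ hF.H :=
        (hF.Q_mem_H (D.sec_mem e)).2 (by rw [D.π_sec]; exact prA_eA e he)
      exact congrArg Subtype.val (hf (a₁ := h * ⟨_, he'⟩) (a₂ := ⟨_, he'⟩ * h) (by
        rw [map_mul, map_mul]
        exact hcq _ ⟨⟨_, he'⟩, Subgroup.mem_subgroupOf.2 (D.sec_mem e), rfl⟩))⟩
    rcases hF.mem_both h.2 h1 with e | e <;> rw [e]
    · exact one_mem _
    · exact D.sub.z_mem
  · let g : hF.H →* Subgroup.centralizer ({f ⟨z, z_mem_CE _⟩} : Set Γ) :=
      f.codRestrict _ fun h => Subgroup.mem_centralizer_singleton_iff.2 (hcomm h)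
    have hg : Function.Bijective g := ⟨fun a b e => hf (congrArg Subtype.val e), fun c => by
      obtain ⟨h, hh⟩ := hcent c (Subgroup.mem_centralizer_singleton_iff.1 c.2)
      exact ⟨h, Subtype.ext hh⟩⟩
    let ψ : hF.H →* alternatingGroup (Pt pA) := (ptHom D sideB).codRestrict _ fun h =>
      (range_ptHom hF.frame sideB lenB).le ⟨h, rfl⟩
    have hψ : Function.Surjective ψ := fun σ => by
      obtain ⟨h, hh⟩ := (range_ptHom hF.frame sideB lenB).ge σ.2
      exact ⟨h, Subtype.ext hh⟩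
    let e5 : alternatingGroup (Pt pA) ≃* alternatingGroup (Fin 5) :=
      Equiv.altCongrHom (Fintype.equivFinOfCardEq sideB.card_pt)
    refine ⟨(e5.toMonoidHom.comp ψ).comp (MulEquiv.ofBijective g hg).symm.toMonoidHom,
      (e5.surjective.comp hψ).comp (MulEquiv.ofBijective g hg).symm.surjective, fun c => ?_⟩
    obtain ⟨h, rfl⟩ := hg.2 c
    show e5 (ψ ((MulEquiv.ofBijective g hg).symm (MulEquiv.ofBijective g hg h))) = 1 ↔ f h ∈ _
    rw [MulEquiv.symm_apply_apply, MulEquiv.map_eq_one_iff,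
      Subgroup.mem_map_iff_mem hf, Subgroup.mem_subgroupOf, ← ptHom_eq_one D sideB h]
    exact ⟨fun e => congrArg Subtype.val e, fun e => Subtype.ext e⟩

end Five

end CfsgLib.ConwayFive
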