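import Cfsg.Agent.Components.Layer
import Cfsg.Agent.J2Model.Map

/-!
# The layer of the product of an abelian central part and a copy of the Hall–Janko group
-/

set_option autoImplicit false
set_option linter.style.haveILetI false

namespace CfsgLib.ConwayFive

open scoped commutatorElement

variable {X : Type*} [Group X]

theorem isQuasisimple_of_isoJ2 {Y : Type*} [Group Y] (hY : Cfsg.Spor.IsoJ2 Y) :
    Cfsg.IsQuasisimple Y := by
  obtain ⟨e⟩ := hY
  haveI := CfsgLib.J2Model.isSimpleGroup_J2
  haveI : IsSimpleGroup Y := e.isSimpleGroup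
  haveI : Finite Y := Nat.finite_of_card_ne_zero (by
    rw [Nat.card_congr e.toEquiv, CfsgLib.J2Model.card_J2]; norm_num)
  have hbot : Subgroup.center Y = ⊥ := by
    refine (IsSimpleGroup.eq_bot_or_eq_top_of_normal _ inferInstance).resolve_right fun h => ?_
    let _ : CommGroup Y := { ‹Group Y› with
      mul_comm := fun a b => (Subgroup.mem_center_iff.1 (h ▸ Subgroup.mem_top a) b).symm }
    have := IsSimpleGroup.prime_card (α := Y)
    rw [Nat.card_congr e.toEquiv, CfsgLib.J2Model.card_J2] at this
    norm_num at this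
  refine ⟨⟨(IsSimpleGroup.eq_bot_or_eq_top_of_normal (commutator Y) inferInstance).resolve_left
    fun h => ?_⟩, ((QuotientGroup.quotientMulEquivOfEq hbot).trans
      QuotientGroup.quotientBot).isSimpleGroup⟩
  have hc : Subgroup.center Y = ⊤ := eq_top_iff.2 fun a _ => Subgroup.mem_center_iff.2 fun b => by
    have h1 : ⁅b, a⁆ = 1 := by
      rw [← Subgroup.mem_bot, ← h, commutator_def]
      exact Subgroup.commutator_mem_commutator (Subgroup.mem_top b) (Subgroup.mem_top a)
    exact commutatorElement_eq_one_iff_mul_comm.1 h1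
  exact bot_ne_top (hbot.symm.trans hc)

/-- A normal quasisimple subgroup with abelian factor group is the layer. -/
theorem layer_eq_of_abelian (Y : Subgroup X) [Y.Normal] (hY : Cfsg.IsQuasisimple Y)
    (hab : ∀ a b : X, a * b * a⁻¹ * b⁻¹ ∈ Y) : Cfsg.layer X = Y := by
  refine le_antisymm (sSup_le fun L hL => ?_)
    (CfsgLib.Components.IsComponent.le_layer ⟨Subgroup.Normal.isSubnormal inferInstance, hY⟩)
  haveI : Group.IsPerfect L := hL.2.1
  have h : ⁅L, L⁆ = L := (Subgroup.isPerfect_iff).1 inferInstance
  rw [← h, Subgroup.commutator_le]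
  intro a _ b _
  rw [commutatorElement_def]
  exact hab a b

end CfsgLib.ConwayFive
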