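import Cfsg.Agent.ConwayFive.Embed
import Cfsg.Agent.HallJanko.Recognition
import Cfsg.Agent.HallJanko.Model

/-!
# The centralizer of the element of order five
-/

set_option autoImplicit false
set_option linter.style.haveILetI false

namespace CfsgLib.ConwayFive

open CfsgLib.ConwayType

theorem card_of_core {Γ : Type*} [Group Γ] [Finite Γ] {ζ : Γ} {R : Subgroup Γ}
    (h : HallJanko.Core ζ R) : Nat.card Γ = 604800 ∧ Cfsg.Spor.IsoJ2 Γ := by
  have := CfsgLib.J2Model.isSimpleGroup_J2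
  obtain ⟨e⟩ := h.nonempty_mulEquiv CfsgLib.J2Model.card_J2 CfsgLib.HallJanko.Model.closure_eq_top
    CfsgLib.HallJanko.Model.gen
  exact ⟨(Nat.card_congr e.toEquiv).trans CfsgLib.J2Model.card_J2, ⟨e⟩⟩

namespace Five

variable {G : Type*} [Group G] {z s b p : G} {Q P : Subgroup G} {π : G → V8}

/-- The centralizer of `p` in `H1`. -/
abbrev K (hF : Five z Q π P s b) (_hp : Moving z s b P p) : Subgroup G :=
  hF.H1 ⊓ Subgroup.centralizer ({p} : Set G)

/-- The group generated by `H` and `p`. -/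
abbrev Y (hF : Five z Q π P s b) (_hp : Moving z s b P p) : Subgroup G :=
  hF.H ⊔ Subgroup.zpowers p

variable (hF : Five z Q π P s b) (hp : Moving z s b P p)
include hF hp

omit hF in
theorem moving_inv : p⁻¹ * z * p = s * z := by
  have h := hp.conj_z
  rwa [inv_eq_of_mul_eq_one_right hp.sq] at h ⊢

/-- The members of `H1` commuting with `p` meet `Q` trivially. -/
theorem eq_one_of_mem_K [Finite G] {k : G} (hk : k ∈ hF.H1) (hkp : k * p = p * k) (hkQ : k ∈ Q) :
    k = 1 := by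
  have F := hF.frame
  have h0 := (hF.Q_mem_H1 hkQ).1 hk
  have hcls : cls π k = π k := inU_of_prA _ h0
  have hup := F.ups_comm_P hkQ (hF.H1_comm_s hk) hp.mem hp.conj_z (moving_inv hp)
  rw [mul_inv_eq_iff_eq_mul.2 hkp, mul_inv_cancel, F.ups_memE (Or.inl rfl), hcls] at hup
  rcases F.data.mem_of_π_zero hkQ hup.symm with e | e
  · exact e
  · exfalso
    rw [e] at hkp
    have h := hp.conj_z
    rw [← hkp, mul_inv_cancel_right] at h
    exact F.pair.subP.ne_one (mul_eq_right.1 h.symm)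

/-- Every element of `H1` can be corrected by `Q` to commute with `p`. -/
theorem exists_K [Finite G] {k : G} (hk : k ∈ hF.H1) :
    ∃ q : G, q ∈ Q ∧ q * k ∈ hF.H1 ∧ q * k * p = p * (q * k) := by
  have F := hF.frame
  have hkz : k * z = z * k := CfsgLib.ConwayFive.comm_z _ hk
  have hks := hF.H1_comm_s hk
  have hinv := moving_inv hp
  obtain ⟨hCP, hCz⟩ := F.comm_P_mem hkz hks hp.mem hp.conj_z hinv
  obtain ⟨μ, hμ⟩ : ∃ μ, μ = F.ups (k * p * k⁻¹ * p⁻¹) := ⟨_, rfl⟩
  have hμU : InU μ := hμ ▸ F.ups_inU _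
  have horth : ∀ u, InU u → (∀ e ∈ eB, b8 e u = false) → b8 μ u = false := by
    intro u hu he
    obtain ⟨w, hw, hwz, hwu⟩ := F.exists_ups hu
    have hwH := hF.W_mem_H hw hwz (by rw [hwu]; exact he)
    have h : k * w * k⁻¹ = ee z s false false * w := by
      rw [Frame.ee_false, one_mul]
      exact mul_inv_eq_iff_eq_mul.2 (hF.comm_H hwH hk).symm
    rw [hμ, ← hwu]
    exact (F.z_exponent hkz hks hp.mem hp.conj_z hinv hw hwz h).symm
  have hμ0 : prA μ = 0 := prA_of_orth μ hμU (horth aN std_AN.1 fun e he => (eB_facts e he).2.1)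
    (horth uN std_AN.2.1 fun e he => (eB_facts e he).2.2.1)
  obtain ⟨a, ha, haπ⟩ := F.data.surj μ
  have haH : a ∈ hF.H1 := (hF.Q_mem_H1 ha).2 (by rw [haπ]; exact hμ0)
  have has := hF.H1_comm_s haH
  have haz := F.data.Q_comm ha
  have hacls : cls π a = μ := by rw [cls, haπ]; exact hμU
  obtain ⟨hAP, hAz⟩ := F.comm_P_mem haz has hp.mem hp.conj_z hinv
  obtain ⟨hCP', hCz'⟩ := F.conj_mem_W haz has hCP hCz
  have he0 : MemE z s (a * (k * p * k⁻¹ * p⁻¹) * a⁻¹ * (a * p * a⁻¹ * p⁻¹)) := by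
    refine F.memE_of_ups (mul_mem hCP' hAP) (Commute.mul_left hCz' hAz).eq ?_
    rw [F.ups_mul hCP' hCz' hAP hAz, F.ups_conj haz has hCP hCz, ← hμ, F.data.act_of_mem ha,
      show pU μ = μ from hμU, F.ups_comm_P ha has hp.mem hp.conj_z hinv, hacls, add_self8]
  obtain ⟨i, j, hij⟩ := Frame.exists_ee he0
  obtain ⟨k1, hk1⟩ : ∃ k1, k1 = a * k := ⟨_, rfl⟩
  have e1 : k1 * p * k1⁻¹ = ee z s i j * p := by rw [← hij, hk1]; group
  have hi : i = false := by
    have h2 : ee z s i j * p * (ee z s i j * p) = 1 := by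
      rw [← e1, show k1 * p * k1⁻¹ * (k1 * p * k1⁻¹) = k1 * (p * p) * k1⁻¹ by group, hp.sq]; group
    have h3 : ee z s i j * p * (ee z s i j * p) = ee z s i j * (p * ee z s i j * p⁻¹) * (p * p) := by
      group
    rw [h3, F.conj_ee_P _ _ hp.mem hp.conj_z, hp.sq, mul_one, F.ee_mul] at h2
    have h4 := (F.ee_inj (k := false) (l := false) (h2.trans Frame.ee_false.symm)).2
    revert h4
    cases i <;> cases j <;> simp
  subst hi
  cases j
  · refine ⟨a, ha, mul_mem haH hk, ?_⟩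
    rw [Frame.ee_false, one_mul, mul_inv_eq_iff_eq_mul, hk1] at e1
    exact e1
  · refine ⟨z * a, mul_mem F.data.sub.z_mem ha, mul_mem (mul_mem (z_mem_CE _) haH) hk, ?_⟩
    have e2 : k1 * p * k1⁻¹ = s * p := by rw [e1]; simp [ee]
    have e3 : z * p * z⁻¹ = s * p := by
      rw [inv_eq_of_mul_eq_one_right F.data.sub.mul_self]
      calc z * p * z = z * (p * z * p⁻¹) * p := by group
        _ = z * (s * z) * p := by rw [hp.conj_z]
        _ = s * p := by
          rw [F.s_comm, ← mul_assoc z z, F.data.sub.mul_self, one_mul]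
    refine mul_inv_eq_iff_eq_mul.1 ?_
    calc z * a * k * p * (z * a * k)⁻¹ = z * (k1 * p * k1⁻¹) * z⁻¹ := by rw [hk1]; group
      _ = (z * s) * (p * z⁻¹) := by rw [e2]; group
      _ = s * (z * p * z⁻¹) := by rw [← F.s_comm]; group
      _ = p := by rw [e3, ← mul_assoc, F.s_mul_self, one_mul]

theorem K_comm_p {k : G} (hk : k ∈ hF.K hp) : k * p = p * k :=
  Subgroup.mem_centralizer_singleton_iff.1 (Subgroup.mem_inf.1 hk).2

theorem b_mem_K : b ∈ hF.K hp := ⟨hF.b_mem_H1, Subgroup.mem_centralizer_singleton_iff.2 hp.comm_b.symm⟩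

theorem K_equiv [Finite G] : Nonempty (↥(hF.K hp) ≃* alternatingGroup (Fin 5)) := by
  classical
  let ψ : ↥(hF.K hp) →* alternatingGroup (Pt pB) :=
    ((ptHom hF.frame.data sideA).comp (Subgroup.inclusion inf_le_left)).codRestrict _ fun k =>
      (range_ptHom hF.frame sideA lenA).le ⟨_, rfl⟩
  have hinj : Function.Injective ψ := by
    rw [← MonoidHom.ker_eq_bot_iff, eq_bot_iff]
    intro k hk
    have h1 : (k : G) ∈ Q :=
      (ptHom_eq_one hF.frame.data sideA (Subgroup.inclusion inf_le_left k)).1 (congrArg Subtype.val hk)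
    exact Subgroup.mem_bot.2 (Subtype.ext
      (hF.eq_one_of_mem_K hp (Subgroup.mem_inf.1 k.2).1 (hF.K_comm_p hp k.2) h1))
  have hsurj : Function.Surjective ψ := fun σ => by
    obtain ⟨⟨k, hk⟩, hkσ⟩ := (range_ptHom hF.frame sideA lenA).ge σ.2
    obtain ⟨q, hq, hqk, hc⟩ := hF.exists_K hp hk
    refine ⟨⟨q * k, hqk, Subgroup.mem_centralizer_singleton_iff.2 hc⟩, Subtype.ext ?_⟩
    show ptHom hF.frame.data sideA ⟨q * k, hqk⟩ = _
    rw [← hkσ]
    refine Equiv.ext fun v => Subtype.ext ?_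
    rw [ptHom_apply, ptHom_apply]
    show hF.frame.data.act (q * k) v.1 = hF.frame.data.act k v.1
    rw [hF.frame.data.act_mul (hF.frame.data.Q_comm hq) (CfsgLib.ConwayFive.comm_z _ hk),
      hF.frame.data.act_of_mem hq]
  exact ⟨(MulEquiv.ofBijective ψ ⟨hinj, hsurj⟩).trans
    (Equiv.altCongrHom (Fintype.equivFinOfCardEq sideA.card_pt))⟩

theorem H_le_Y : hF.H ≤ hF.Y hp := le_sup_left

theorem Y_le [Finite G] : hF.Y hp ≤ Subgroup.centralizer ({b} : Set G) := by
  refine sup_le (fun h hh => Subgroup.mem_centralizer_singleton_iff.2 (hF.comm_b_H hh).symm) ?_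
  rw [Subgroup.zpowers_le, Subgroup.mem_centralizer_singleton_iff]
  exact hp.comm_b

theorem Y_comm_K [Finite G] {y k : G} (hy : y ∈ hF.Y hp) (hk : k ∈ hF.K hp) : y * k = k * y := by
  have : hF.Y hp ≤ Subgroup.centralizer ({k} : Set G) := by
    refine sup_le (fun h hh => Subgroup.mem_centralizer_singleton_iff.2
      (hF.comm_H hh (Subgroup.mem_inf.1 hk).1)) ?_
    rw [Subgroup.zpowers_le, Subgroup.mem_centralizer_singleton_iff]
    exact (hF.K_comm_p hp hk).symm
  exact Subgroup.mem_centralizer_singleton_iff.1 (this hy)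

/-- Only the trivial power of `b` lies in `Y`. -/
theorem pow_eq_one_of_mem_Y [Finite G] {i : ℕ} (h : b ^ i ∈ hF.Y hp) : b ^ i = 1 := by
  obtain ⟨e⟩ := hF.K_equiv hp
  have hi : b ^ i ∈ hF.K hp := pow_mem (hF.b_mem_K hp) i
  have hc : e ⟨b ^ i, hi⟩ ∈ Subgroup.center (alternatingGroup (Fin 5)) := by
    refine Subgroup.mem_center_iff.2 fun σ => ?_
    obtain ⟨k, rfl⟩ := e.surjective σ
    rw [← map_mul, ← map_mul]
    exact congrArg e (Subtype.ext (hF.Y_comm_K hp h k.2).symm)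
  rw [alternatingGroup.center_eq_bot (by simp), Subgroup.mem_bot, MulEquiv.map_eq_one_iff] at hc
  exact congrArg Subtype.val hc

theorem Y_cent [Finite G] {y : G} (hy : y ∈ hF.Y hp) (hyz : y * z = z * y) : y ∈ hF.H := by
  obtain ⟨i, h, hh, rfl⟩ := hF.decomp hyz (Subgroup.mem_centralizer_singleton_iff.1 (hF.Y_le hp hy))
  have hb : b ^ i ∈ hF.Y hp := by
    have := mul_mem hy (inv_mem (hF.H_le_Y hp hh))
    rwa [mul_inv_cancel_right] at this
  rw [hF.pow_eq_one_of_mem_Y hp hb, one_mul]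
  exact hh

omit hp in
theorem sz_facts : s * z ∈ hF.H ∧ s * z ∈ Q ∧ s * z ≠ z :=
  ⟨mul_mem hF.s_mem_H (z_mem_CE _), mul_mem hF.frame.pair.mem hF.frame.data.sub.z_mem,
    fun e => hF.frame.pair.subP.ne_one (mul_eq_right.1 e)⟩

theorem Y_iso [Finite G] : Nat.card ↥(hF.Y hp) = 604800 ∧ Cfsg.Spor.IsoJ2 ↥(hF.Y hp) := by
  have hHY := hF.H_le_Y hp
  obtain ⟨ζ, hζ⟩ : ∃ ζ : ↥(hF.Y hp), ζ = Subgroup.inclusion hHY ⟨z, z_mem_CE _⟩ := ⟨_, rfl⟩
  refine card_of_core (R := (Q.subgroupOf hF.H).map (Subgroup.inclusion hHY)) (ζ := ζ)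
    { toPreCore := hF.preCore_of_embedding (Subgroup.inclusion hHY)
        (Subgroup.inclusion_injective hHY) hζ.symm fun c hc =>
          ⟨⟨c, hF.Y_cent hp c.2 (by rw [hζ] at hc; exact congrArg Subtype.val hc)⟩, rfl⟩
      hnwc := ?_
      hcl := ?_ }
  · obtain ⟨h1, h2, h3⟩ := hF.sz_facts
    refine ⟨Subgroup.inclusion hHY ⟨s * z, h1⟩, ⟨_, Subgroup.mem_subgroupOf.2 h2, rfl⟩,
      fun e => h3 ?_, isConj_iff.2 ⟨⟨p, Subgroup.mem_sup_right (Subgroup.mem_zpowers p)⟩, ?_⟩⟩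
    · rw [hζ] at e; exact congrArg Subtype.val e
    · rw [hζ]; exact Subtype.ext hp.conj_z
  · obtain ⟨t, ht, ht2, htz⟩ := hF.exists_other
    refine ⟨ζ, Subgroup.inclusion hHY ⟨t, ht⟩, ?_, ?_, fun hc => htz ?_⟩
    · rw [hζ, orderOf_injective _ (Subgroup.inclusion_injective hHY), Subgroup.orderOf_mk]
      exact hF.frame.data.sub.two
    · rw [orderOf_injective _ (Subgroup.inclusion_injective hHY), Subgroup.orderOf_mk, ht2]
    · rw [hζ] at hc
      obtain ⟨c, hc⟩ := isConj_iff.1 hc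
      exact isConj_iff.2 ⟨c, congrArg Subtype.val hc⟩

omit hF hp in
/-- An element between two commuting involutions modulo `⟨b⟩` is trivial. -/
theorem eq_one_of_sq {β t : G} (h5 : β ^ 5 = 1) (hc : Commute β t) (ht : t * t = 1)
    (h2 : β * t * (β * t) = 1) : β = 1 := by
  rw [hc.symm.mul_mul_mul_comm, ht, mul_one] at h2
  calc β = β * (β * β) * (β * β) := by rw [h2]; group
    _ = β ^ 5 := by simp [pow_succ, mul_assoc]
    _ = 1 := h5

/-- The centralizer of `b` is the product of `⟨b⟩` and `Y`. -/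
theorem centralizer_b [Finite G] {x : G} (hx : x * b = b * x) :
    ∃ i : ℤ, ∃ y ∈ hF.Y hp, x = b ^ i * y := by
  classical
  obtain ⟨X, hX⟩ : ∃ X : Subgroup G, X = Subgroup.centralizer ({b} : Set G) := ⟨_, rfl⟩
  have hbX : b ∈ X := hX ▸ Subgroup.mem_centralizer_singleton_iff.2 rfl
  have hXb : ∀ {x}, x ∈ X → x * b = b * x := fun hx =>
    Subgroup.mem_centralizer_singleton_iff.1 (hX ▸ hx)
  have hHX : hF.H ≤ X := fun h hh =>
    hX ▸ Subgroup.mem_centralizer_singleton_iff.2 (hF.comm_b_H hh).symm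
  obtain ⟨N, hN⟩ : ∃ N : Subgroup X, N = Subgroup.zpowers (⟨b, hbX⟩ : X) := ⟨_, rfl⟩
  have hmemN : ∀ {x : X}, x ∈ N → ∃ i : ℤ, b ^ i = (x : G) := fun {x} hx => by
    obtain ⟨i, rfl⟩ := Subgroup.mem_zpowers_iff.1 (hN ▸ hx)
    exact ⟨i, by simp⟩
  haveI : N.Normal := ⟨fun n hn g => by
    obtain ⟨i, hi⟩ := hmemN hn
    have hg : g * n * g⁻¹ = n := mul_inv_eq_iff_eq_mul.2 (Subtype.ext (by
      show (g : G) * n = n * g
      rw [← hi]
      exact ((show Commute (g : G) b from hXb g.2).zpow_right i).eq))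
    rwa [hg]⟩
  have hpow : ∀ {x : X}, x ∈ N → (x : G) ^ 5 = 1 := fun {x} hx => by
    obtain ⟨i, hi⟩ := hmemN hx
    rw [← hi, ← zpow_natCast, ← zpow_mul, mul_comm, zpow_mul, zpow_natCast, hF.pow_five, one_zpow]
  have hcm : ∀ {x : X}, x ∈ N → ∀ {h : G}, h * b = b * h → Commute (x : G) h := fun {x} hx {h} hh => by
    obtain ⟨i, hi⟩ := hmemN hx
    rw [← hi]
    exact (show Commute b h from hh.symm).zpow_left i
  let f : hF.H →* X ⧸ N := (QuotientGroup.mk' N).comp (Subgroup.inclusion hHX)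
  have hf : Function.Injective f := by
    rw [← MonoidHom.ker_eq_bot_iff, eq_bot_iff]
    intro h hh
    have hhN : Subgroup.inclusion hHX h ∈ N := (QuotientGroup.eq_one_iff _).1 hh
    obtain ⟨i, hi⟩ := hmemN hhN
    have h1 : (h : G) ∈ hF.H1 := by
      rw [show (h : G) = b ^ i from hi.symm]; exact zpow_mem hF.b_mem_H1 i
    have h5 : (h : G) ^ 5 = 1 := hpow hhN
    refine Subgroup.mem_bot.2 (Subtype.ext ?_)
    rcases hF.mem_both h.2 h1 with e | e
    · exact e
    · rw [e, show (5 : ℕ) = 2 + 2 + 1 from rfl, pow_succ, pow_add, pow_two,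
        hF.frame.data.sub.mul_self, one_mul, one_mul] at h5
      exact absurd h5 hF.frame.data.sub.ne_one
  have hzm : z ∈ X := hHX (z_mem_CE _)
  obtain ⟨ζ, hζ⟩ : ∃ ζ : X ⧸ N, ζ = f ⟨z, z_mem_CE _⟩ := ⟨_, rfl⟩
  have lift : ∀ {t : G} (ht : t ∈ hF.H), t * t = 1 → ∀ y : X,
      (QuotientGroup.mk y : X ⧸ N) * ζ * (QuotientGroup.mk y)⁻¹ = f ⟨t, ht⟩ →
      (y : G) * z * (y : G)⁻¹ = t := by
    intro t ht htt y hy
    have htX : t ∈ X := hHX ht
    have hm : y * ⟨z, hzm⟩ * y⁻¹ * (⟨t, htX⟩ : X)⁻¹ ∈ N := by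
      rw [← QuotientGroup.eq_one_iff (N := N), QuotientGroup.mk_mul, QuotientGroup.mk_inv,
        mul_inv_eq_one]
      rw [hζ] at hy
      exact hy
    obtain ⟨β, hβ⟩ : ∃ β, β = (y : G) * z * (y : G)⁻¹ * t⁻¹ := ⟨_, rfl⟩
    have e : (y : G) * z * (y : G)⁻¹ = β * t := by rw [hβ]; group
    have hb1 : β = 1 := by
      refine eq_one_of_sq (t := t) ?_ ?_ htt ?_
      · rw [hβ]; exact hpow hm
      · rw [hβ]; exact hcm hm (hF.comm_b_H ht).symm
      · rw [← e, show (y : G) * z * (y : G)⁻¹ * ((y : G) * z * (y : G)⁻¹) =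
          (y : G) * (z * z) * (y : G)⁻¹ by group, hF.frame.data.sub.mul_self]
        group
    rw [e, hb1, one_mul]
  have hcore : HallJanko.Core ζ ((Q.subgroupOf hF.H).map f) :=
    { toPreCore := hF.preCore_of_embedding f hf hζ.symm fun c => by
        induction c using QuotientGroup.induction_on with
        | H y =>
          intro hc
          have h := lift (z_mem_CE _) hF.frame.data.sub.mul_self y (by
            rw [← hζ]; exact mul_inv_eq_iff_eq_mul.2 hc)
          obtain ⟨i, h', hh', e⟩ := hF.decomp (mul_inv_eq_iff_eq_mul.1 h) (hXb y.2)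
          refine ⟨⟨h', hh'⟩, ?_⟩
          show (QuotientGroup.mk (⟨h', hHX hh'⟩ : X) : X ⧸ N) = QuotientGroup.mk y
          refine QuotientGroup.eq.2 ?_
          rw [show (⟨h', hHX hh'⟩ : X)⁻¹ * y = (⟨b, hbX⟩ : X) ^ i from Subtype.ext (by
            show h'⁻¹ * (y : G) = b ^ i
            rw [e, ← mul_assoc, ((show Commute h'⁻¹ b from
              (Commute.inv_left (hF.comm_b_H hh').symm)).pow_right i).eq, inv_mul_cancel_right])]
          rw [hN]
          exact Subgroup.npow_mem_zpowers _ i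
      hnwc := by
        obtain ⟨h1, h2, h3⟩ := hF.sz_facts
        refine ⟨f ⟨s * z, h1⟩, ⟨_, Subgroup.mem_subgroupOf.2 h2, rfl⟩, fun e => h3 ?_, ?_⟩
        · rw [hζ] at e; exact congrArg Subtype.val (hf e)
        · have hpX : p ∈ X := hX ▸ hF.Y_le hp (Subgroup.mem_sup_right (Subgroup.mem_zpowers p))
          refine isConj_iff.2 ⟨QuotientGroup.mk ⟨p, hpX⟩, ?_⟩
          rw [hζ]
          show (QuotientGroup.mk _ : X ⧸ N) * QuotientGroup.mk _ * (QuotientGroup.mk _)⁻¹ = _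
          rw [← QuotientGroup.mk_mul, ← QuotientGroup.mk_inv, ← QuotientGroup.mk_mul]
          exact congrArg QuotientGroup.mk (Subtype.ext hp.conj_z)
      hcl := by
        obtain ⟨t, ht, ht2, htz⟩ := hF.exists_other
        refine ⟨ζ, f ⟨t, ht⟩, ?_, ?_, fun hc => htz ?_⟩
        · rw [hζ, orderOf_injective _ hf, Subgroup.orderOf_mk]
          exact hF.frame.data.sub.two
        · rw [orderOf_injective _ hf, Subgroup.orderOf_mk, ht2]
        · obtain ⟨c, hc⟩ := isConj_iff.1 hc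
          induction c using QuotientGroup.induction_on with
          | H y =>
            refine isConj_iff.2 ⟨y, lift ht ?_ y hc⟩
            rw [← pow_two, ← ht2, pow_orderOf_eq_one] }
  have hcard := (card_of_core hcore).1
  have hNcard : Nat.card N = 5 := by
    rw [hN, Nat.card_zpowers, Subgroup.orderOf_mk, hF.order]
  have hXcard : Nat.card X = 5 * 604800 := by
    rw [Subgroup.card_eq_card_quotient_mul_card_subgroup N, hcard, hNcard]
  let g : Subgroup.zpowers b × ↥(hF.Y hp) → X := fun u => ⟨(u.1 : G) * (u.2 : G),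
    mul_mem (Subgroup.zpowers_le.2 hbX u.1.2) (hX ▸ hF.Y_le hp u.2.2)⟩
  have hg : Function.Bijective g := by
    refine (Nat.bijective_iff_injective_and_card g).2 ⟨?_, ?_⟩
    · rintro ⟨⟨u, hu⟩, ⟨y, hy⟩⟩ ⟨⟨u', hu'⟩, ⟨y', hy'⟩⟩ e
      have e' : u * y = u' * y' := congrArg Subtype.val e
      have hm : u'⁻¹ * u ∈ hF.Y hp := by
        rw [show u'⁻¹ * u = y' * y⁻¹ by
          calc u'⁻¹ * u = u'⁻¹ * (u * y) * y⁻¹ := by group
            _ = y' * y⁻¹ := by rw [e']; group]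
        exact mul_mem hy' (inv_mem hy)
      obtain ⟨i, hi⟩ := (Submonoid.mem_powers_iff _ _).1 ((mem_powers_iff_mem_zpowers).2
        (mul_mem (inv_mem hu') hu))
      rw [← hi] at hm
      have := hF.pow_eq_one_of_mem_Y hp hm
      rw [hi, inv_mul_eq_one] at this
      subst this
      obtain rfl : y = y' := mul_left_cancel e'
      rfl
    · rw [Nat.card_prod, Nat.card_zpowers, hF.order, (hF.Y_iso hp).1, hXcard]
  obtain ⟨⟨⟨u, hu⟩, ⟨y, hy⟩⟩, hxy⟩ := hg.2 ⟨x, hX ▸ Subgroup.mem_centralizer_singleton_iff.2 hx⟩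
  obtain ⟨i, rfl⟩ := Subgroup.mem_zpowers_iff.1 hu
  exact ⟨i, y, hy, (congrArg Subtype.val hxy).symm⟩

theorem centralizer_Y [Finite G] :
    Subgroup.centralizer (hF.Y hp : Set G) = hF.K hp := by
  refine le_antisymm (fun x hx => ?_) fun k hk => Subgroup.mem_centralizer_iff.2 fun y hy =>
    hF.Y_comm_K hp hy hk
  have hxy := Subgroup.mem_centralizer_iff.1 hx
  refine ⟨(mem_CE hF.frame.data).2 ⟨(hxy z (hF.H_le_Y hp (z_mem_CE _))).symm, fun e he => ?_⟩,
    Subgroup.mem_centralizer_singleton_iff.2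
      (hxy p (Subgroup.mem_sup_right (Subgroup.mem_zpowers p))).symm⟩
  exact (hxy _ (hF.H_le_Y hp ((hF.Q_mem_H (hF.frame.data.sec_mem e)).2
    (by rw [hF.frame.data.π_sec]; exact prA_eA e he)))).symm

end Five

/-- The structure of the centralizer of the element of order five. -/
theorem Five.main {G : Type*} [Group G] [Finite G] {z s b : G} {Q P : Subgroup G} {π : G → V8}
    (hF : Five z Q π P s b) :
    ∃ Y : Subgroup G, Y ≤ Subgroup.centralizer ({b} : Set G) ∧ Cfsg.Spor.IsoJ2 ↥Y ∧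
      (∀ x, x * b = b * x → ∃ i : ℤ, ∃ y ∈ Y, x = b ^ i * y) ∧
      Nonempty (↥(Subgroup.centralizer (Y : Set G)) ≃* alternatingGroup (Fin 5)) := by
  obtain ⟨p, hp⟩ := hF.exists_moving
  refine ⟨hF.Y hp, hF.Y_le hp, (hF.Y_iso hp).2, fun x hx => hF.centralizer_b hp hx, ?_⟩
  obtain ⟨e⟩ := hF.K_equiv hp
  exact ⟨(MulEquiv.subgroupCongr (hF.centralizer_Y hp)).trans e⟩

end CfsgLib.ConwayFive
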