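import Cfsg.Agent.ConwayFive.Bits
import Mathlib.GroupTheory.SpecificGroups.Alternating.Centralizer

/-!
# The centralizer of the preimage of a minus type space

For a list `E` spanning a minus type space, the centralizer of the elements of `Q` over `E` acts on
the five singular points of the orthogonal space as the alternating group.
-/

set_option autoImplicit false

namespace CfsgLib.ConwayFive

open CfsgLib.ConwayType

/-- The points of a list. -/
abbrev Pt (S : List V8) : Type := {v : V8 // v ∈ S}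

theorem SideData.card_pt {E S : List V8} (hS : SideData E S) : Fintype.card (Pt S) = 5 := by
  rw [Fintype.card_of_subtype S.toFinset fun v => List.mem_toFinset,
    List.toFinset_card_of_nodup hS.nodup, hS.len]

theorem eq_on_bitsum {f g : V8 → V8} (hf : IsIso8 f) (hg : IsIso8 g) {l : List V8}
    (h : ∀ e ∈ l, f e = g e) (n : ℕ) : f (bitsum l n) = g (bitsum l n) := by
  rw [← bitsum_map hf.add hf.zero, ← bitsum_map hg.add hg.zero, List.map_congr_left h]

theorem SideData.ext {E S : List V8} (hS : SideData E S) {f g : V8 → V8} (hf : IsIso8 f)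
    (hg : IsIso8 g) (h1 : ∀ e ∈ S, f e = g e) (h2 : ∀ e ∈ E, f e = g e) (v : V8) : f v = g v := by
  obtain ⟨k, -, rfl⟩ := hS.span v
  exact eq_on_bitsum hf hg (fun e he => (List.mem_append.1 he).elim (h1 e) (h2 e)) k

theorem isIso8_id : IsIso8 fun v : V8 => v := ⟨fun _ _ => rfl, fun _ => rfl⟩

theorem isIso8_rf {r : V8} (hr : q8 r = true) : IsIso8 (rf r) := by
  have e : ∀ v, rf r v = v + sm (b8 v r) r := fun v => by
    unfold rf sm
    cases b8 v r <;> simp
  refine ⟨fun u v => ?_, fun v => ?_⟩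
  · simp only [e, b8_add_left, sm_xor]
    abel
  · rw [e, q8_add, b8_sm_right]
    cases hb : b8 v r
    · simp [sm, show q8 (0 : V8) = false by decide]
    · simp [sm, hr]

theorem rf_rf (r v : V8) : rf r (rf r v) = v := by
  have : ∀ v r : V8, b8 v r = true → b8 (v + r) r = true := fun v r h => by
    rw [b8_add_left, h, b8_self]; rfl
  unfold rf
  cases hb : b8 v r
  · simp [hb]
  · simp [this v r hb, add_add_cancel8]

variable {G : Type*} [Group G] {z : G} {Q : Subgroup G} {π : G → V8} (D : Data z Q π)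

/-- The centralizer of `z` and of the representatives of the vectors in `E`. -/
def CE (E : List V8) : Subgroup G :=
  Subgroup.centralizer (insert z (D.sec '' {v | v ∈ E}))

variable {E S : List V8}

theorem mem_CE {c : G} : c ∈ CE D E ↔ c * z = z * c ∧ ∀ e ∈ E, c * D.sec e = D.sec e * c := by
  simp only [CE, Subgroup.mem_centralizer_iff, Set.forall_mem_insert, Set.forall_mem_image,
    Set.mem_ofPred_eq]
  exact ⟨fun h => ⟨h.1.symm, fun e he => (h.2 he).symm⟩, fun h => ⟨h.1.symm, fun e he => (h.2 e he).symm⟩⟩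

theorem mem_of_bitsum {K : Subgroup G} (hz : z ∈ K) :
    ∀ (l : List V8) (n : ℕ) {x : G}, (∀ e ∈ l, D.sec e ∈ K) → x ∈ Q → π x = bitsum l n → x ∈ K
  | [], _, x, _, hx, h => by
    rcases D.mem_of_π_zero hx h with e | e <;> rw [e]
    · exact one_mem _
    · exact hz
  | a :: l, n, x, hl, hx, h => by
    have ha := hl a List.mem_cons_self
    by_cases hn : n % 2 = 1
    · have hy : (D.sec a)⁻¹ * x ∈ Q := mul_mem (inv_mem (D.sec_mem a)) hx
      have : (D.sec a)⁻¹ * x ∈ K := mem_of_bitsum hz l (n / 2)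
        (fun e he => hl e (List.mem_cons_of_mem a he)) hy (by
          rw [D.map_mul _ (inv_mem (D.sec_mem a)) x hx, D.π_inv (D.sec_mem a), D.π_sec, h, bitsum,
            if_pos hn, ← add_assoc, add_self8, zero_add])
      simpa using mul_mem ha this
    · refine mem_of_bitsum hz l (n / 2) (fun e he => hl e (List.mem_cons_of_mem a he)) hx ?_
      rw [h, bitsum, if_neg hn, zero_add]

theorem CE_comm {c x : G} (hc : c ∈ CE D E) (hx : x ∈ Q) {n : ℕ} (h : π x = bitsum E n) :
    c * x = x * c := by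
  obtain ⟨hcz, hce⟩ := (mem_CE D).1 hc
  refine (Subgroup.mem_centralizer_singleton_iff.1 (mem_of_bitsum D (K := Subgroup.centralizer {c})
    (Subgroup.mem_centralizer_singleton_iff.2 hcz.symm) E n
    (fun e he => Subgroup.mem_centralizer_singleton_iff.2 (hce e he).symm) hx h)).symm

theorem Q_mem_CE {x : G} (hx : x ∈ Q) : x ∈ CE D E ↔ ∀ e ∈ E, b8 (π x) e = false := by
  rw [mem_CE]
  constructor
  · intro h e he
    have := (D.commute_iff hx (D.sec_mem e)).1 (h.2 e he)
    rwa [D.π_sec] at this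
  · exact fun h => ⟨D.Q_comm hx, fun e he => (D.commute_iff hx (D.sec_mem e)).2
      (by rw [D.π_sec]; exact h e he)⟩

theorem z_mem_CE : z ∈ CE D E :=
  (Q_mem_CE D D.sub.z_mem).2 fun e _ => by rw [D.π_z, b8_zero_left]

theorem comm_z {c : G} (hc : c ∈ CE D E) : c * z = z * c := ((mem_CE D).1 hc).1

theorem CE_fix {c : G} (hc : c ∈ CE D E) {e : V8} (he : e ∈ E) : D.act c e = e := by
  rw [Data.act, mul_inv_eq_iff_eq_mul.2 (((mem_CE D).1 hc).2 e he), D.π_sec]

/-- Correct an element fixing the vectors of `E` by an element of `Q` over their span. -/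
theorem exists_adjust (hS : SideData E S) (hlen : E.length = 4) {c : G} (hc : c * z = z * c)
    (hfix : ∀ e ∈ E, D.act c e = e) :
    ∃ q ∈ Q, (∃ n, π q = bitsum E n) ∧ q * c ∈ CE D E := by
  classical
  obtain ⟨f, hf⟩ : ∃ f : V8 → Bool, ∀ e, f e = decide (c * D.sec e * c⁻¹ ≠ D.sec e) :=
    ⟨_, fun _ => rfl⟩
  obtain ⟨v, ⟨k, -, hk⟩, hv⟩ : ∃ v : V8, (∃ k ∈ List.range 16, bitsum E k = v) ∧
      E.map (b8 v) = E.map f := by
    match E, hlen with
    | [e0, e1, e2, e3], _ =>
      obtain ⟨v, h1, h2⟩ := hS.dual (f e0) (f e1) (f e2) (f e3)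
      exact ⟨v, h1, h2⟩
  obtain ⟨q, hq, hqv⟩ := D.surj v
  have hqz := D.Q_comm hq
  refine ⟨q, hq, ⟨k, by rw [hqv, hk]⟩, (mem_CE D).2 ⟨(Commute.mul_left hqz hc).eq,
    fun e he => mul_inv_eq_iff_eq_mul.1 ?_⟩⟩
  have hb : b8 (π q) e = f e := by rw [hqv]; exact List.map_inj_left.1 hv e he
  have hcm := D.commute_iff hq (D.sec_mem e)
  rw [D.π_sec, hb, hf] at hcm
  have h1 : q * c * D.sec e * (q * c)⁻¹ = q * (c * D.sec e * c⁻¹) * q⁻¹ := by group
  rw [h1]
  by_cases hce : c * D.sec e * c⁻¹ = D.sec e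
  · rw [hce]
    exact mul_inv_eq_iff_eq_mul.2 (hcm.2 (by simp [hce]))
  · have hne : q * D.sec e ≠ D.sec e * q := fun e' => by simpa [hce] using hcm.1 e'
    have e2 : c * D.sec e * c⁻¹ = z * D.sec e := by
      refine (D.eq_or_eq_of_π_eq (D.sec_mem e) (D.sub.conj_mem hc (D.sec_mem e)) ?_).resolve_left hce
      rw [← D.act_π hc (D.sec_mem e), D.π_sec, hfix e he]
    rw [e2, show q * (z * D.sec e) * q⁻¹ = (q * z * q⁻¹) * (q * D.sec e * q⁻¹) by group,
      mul_inv_eq_iff_eq_mul.2 hqz, D.sub.conj_of_not_commute hq (D.sec_mem e) hne, ← mul_assoc,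
      D.sub.mul_self, one_mul]

theorem act_mem_pt (hS : SideData E S) {c : G} (hc : c ∈ CE D E) {v : V8} (hv : v ∈ S) :
    D.act c v ∈ S := by
  obtain ⟨h1, h2, h3⟩ := (hS.mem_iff v).1 hv
  have hcz := comm_z D hc
  refine (hS.mem_iff _).2 ⟨by rw [(D.act_iso hcz).quad, h1], fun e => h2 ?_, fun e he => ?_⟩
  · rw [← (D.act_cancel hcz v).1, e, (D.act_iso (Commute.inv_left hcz).eq).zero]
  · rw [← CE_fix D hc he, (D.act_iso hcz).polar]
    exact h3 e he

/-- The permutation of the singular points of the orthogonal space. -/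
noncomputable def ptHom (hS : SideData E S) : CE D E →* Equiv.Perm (Pt S) where
  toFun c :=
    { toFun := fun v => ⟨D.act (c : G) v.1, act_mem_pt D hS c.2 v.2⟩
      invFun := fun v => ⟨D.act (c : G)⁻¹ v.1, act_mem_pt D hS (inv_mem c.2) v.2⟩
      left_inv := fun v => Subtype.ext (D.act_cancel (comm_z D c.2) v.1).1
      right_inv := fun v => Subtype.ext (D.act_cancel (comm_z D c.2) v.1).2 }
  map_one' := Equiv.ext fun v => Subtype.ext (D.act_one v.1)
  map_mul' c d := Equiv.ext fun v => Subtype.ext (D.act_mul (comm_z D c.2) (comm_z D d.2) v.1)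

theorem ptHom_apply (hS : SideData E S) (c : CE D E) (v : Pt S) :
    (ptHom D hS c v).1 = D.act (c : G) v.1 := rfl

theorem ptHom_eq_one (hS : SideData E S) (c : CE D E) : ptHom D hS c = 1 ↔ (c : G) ∈ Q := by
  constructor
  · intro h
    refine D.mem_of_act (comm_z D c.2) (hS.ext (D.act_iso (comm_z D c.2)) isIso8_id (fun e he => ?_)
      fun e he => CE_fix D c.2 he)
    rw [← ptHom_apply D hS c ⟨e, he⟩, h]; rfl
  · exact fun h => Equiv.ext fun v => Subtype.ext (D.act_of_mem h v.1)

/-- Products of two transpositions of the points are induced. -/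
theorem swap_swap_mem (hS : SideData E S) (hlen : E.length = 4) {a b c d : Pt S} (hab : a ≠ b)
    (hcd : c ≠ d) : Equiv.swap a b * Equiv.swap c d ∈ (ptHom D hS).range := by
  have swap_eq : ∀ {a b : Pt S}, a ≠ b → ∀ x : Pt S, rf (a.1 + b.1) x.1 = (Equiv.swap a b x).1 := by
    intro a b hab x
    obtain ⟨-, h1, h2, h3, -⟩ := hS.root a.1 a.2 b.1 b.2 fun e => hab (Subtype.ext e)
    rcases eq_or_ne x a with rfl | hxa
    · rw [h1, Equiv.swap_apply_left]
    rcases eq_or_ne x b with rfl | hxb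
    · rw [h2, Equiv.swap_apply_right]
    · rw [h3 x.1 x.2 (fun e => hxa (Subtype.ext e)) (fun e => hxb (Subtype.ext e)),
        Equiv.swap_apply_of_ne_of_ne hxa hxb]
  obtain ⟨hq1, -, -, -, hf1⟩ := hS.root a.1 a.2 b.1 b.2 fun e => hab (Subtype.ext e)
  obtain ⟨hq2, -, -, -, hf2⟩ := hS.root c.1 c.2 d.1 d.2 fun e => hcd (Subtype.ext e)
  obtain ⟨g, hg, hgv⟩ := D.exists_pr (p := ((a.1 + b.1).bits, (c.1 + d.1).bits))
    (by simp [okPair, mk8_bits, hq1, hq2])
  have hgv' : ∀ v, D.act g v = rf (a.1 + b.1) (rf (c.1 + d.1) v) := fun v => by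
    rw [hgv, pr, mk8_bits, mk8_bits]
  obtain ⟨q, hq, -, hqg⟩ := exists_adjust D hS hlen hg fun e he => by
    rw [hgv', hf2 e he, hf1 e he]
  refine ⟨⟨q * g, hqg⟩, Equiv.ext fun x => Subtype.ext ?_⟩
  rw [ptHom_apply, Equiv.Perm.mul_apply, ← swap_eq hab, ← swap_eq hcd, D.act_mul (D.Q_comm hq) hg,
    D.act_of_mem hq, hgv']

/-- Every even permutation of the points is induced. -/
theorem alternating_le_range (hS : SideData E S) (hlen : E.length = 4) :
    alternatingGroup (Pt S) ≤ (ptHom D hS).range := by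
  intro σ hσ
  have key : ∀ σ : Equiv.Perm (Pt S), (Equiv.Perm.sign σ = 1 → σ ∈ (ptHom D hS).range) ∧
      (Equiv.Perm.sign σ = -1 → ∀ a b : Pt S, a ≠ b →
        Equiv.swap a b * σ ∈ (ptHom D hS).range) := by
    intro σ
    induction σ using Equiv.Perm.swap_induction_on with
    | one => exact ⟨fun _ => one_mem _, fun h => absurd h (by simp)⟩
    | swap_mul f x y hxy ih =>
      have hs : Equiv.Perm.sign (Equiv.swap x y * f) = - Equiv.Perm.sign f := by
        rw [map_mul, Equiv.Perm.sign_swap hxy, neg_one_mul]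
      constructor
      · intro h
        exact ih.2 (by rw [hs] at h; exact neg_eq_iff_eq_neg.1 h) x y hxy
      · intro h a b hab
        rw [← mul_assoc]
        exact mul_mem (swap_swap_mem D hS hlen hab hxy) (ih.1 (by rw [hs] at h; exact neg_injective h))
  exact (key σ).1 (Equiv.Perm.mem_alternatingGroup.1 hσ)

variable {s : G} {P : Subgroup G}

/-- No element of `C(z)` acts as a reflection fixing `s0`. -/
theorem no_reflection [Finite G] (F : Frame z Q π P s) {c : G} (hc : c * z = z * c) {r : V8}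
    (hr : q8 r = true) (hact : ∀ v, F.data.act c v = rf r v) : b8 r s0 = true := by
  classical
  by_contra hrs
  rw [Bool.not_eq_true] at hrs
  have : Fact (Nat.Prime 2) := ⟨Nat.prime_two⟩
  set C := Subgroup.centralizer ({z} : Set G)
  have hcc : c * c ∈ Q := F.data.mem_of_act (Commute.mul_left hc hc).eq fun v => by
    rw [F.data.act_mul hc hc, hact, hact, rf_rf]
  have hc8 : c ^ 8 = 1 := by
    have e : c ^ 8 = c * c * (c * c) * (c * c * (c * c)) := by simp [pow_succ, mul_assoc]
    rcases F.data.sub.sq_eq hcc with e' | e' <;> rw [e, e']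
    · rw [one_mul]
    · exact F.data.sub.mul_self
  obtain ⟨cC, hcC⟩ : ∃ cC : C, (cC : G) = c := ⟨⟨c, Subgroup.mem_centralizer_singleton_iff.2 hc⟩, rfl⟩
  have hp : IsPGroup 2 (Subgroup.zpowers cC) := by
    rintro ⟨g, k, rfl⟩
    refine ⟨3, Subtype.ext ?_⟩
    show (cC ^ k) ^ (2 ^ 3) = 1
    refine Subtype.ext ?_
    rw [SubgroupClass.coe_pow, SubgroupClass.coe_zpow, hcC, ← zpow_natCast, ← zpow_mul, mul_comm,
      zpow_mul, zpow_natCast, show (2 ^ 3 : ℕ) = 8 by norm_num, hc8, one_zpow]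
    rfl
  have hSC : F.data.sylS ≤ C := fun h hh =>
    Subgroup.mem_centralizer_singleton_iff.2 (F.data.mem_sylS.1 hh).1
  let T0 : Sylow 2 C := Sylow.ofCard (F.data.sylS.subgroupOf C) (by
    rw [Nat.card_congr (Subgroup.subgroupOfEquivOfLe hSC).toEquiv, F.card_sylS, F.data.card_cent,
      Nat.factorization_mul (by norm_num) (by norm_num), Finsupp.add_apply,
      Nat.Prime.factorization_pow Nat.prime_two, Finsupp.single_eq_same,
      Nat.factorization_eq_zero_of_not_dvd (by norm_num : ¬ 2 ∣ 42525)])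
  obtain ⟨T, hT⟩ := hp.exists_le_sylow
  obtain ⟨d, hd⟩ := MulAction.exists_smul_eq C T T0
  have hmem : d * cC * d⁻¹ ∈ (T0 : Subgroup C) := by
    rw [← hd]
    exact ⟨cC, hT (Subgroup.mem_zpowers _), rfl⟩
  have hS' : F.data.InS ((d : G) * c * (d : G)⁻¹) := by rw [← hcC]; exact hmem
  have hdz : (d : G) * z = z * d := Subgroup.mem_centralizer_singleton_iff.1 d.2
  have hiso := F.data.act_iso hdz
  set r' := F.data.act (d : G) r with hr'
  have hr'q : q8 r' = true := by rw [hr', hiso.quad, hr]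
  have hact' : ∀ v, F.data.act ((d : G) * c * (d : G)⁻¹) v = rf r' v := fun v => by
    rw [F.data.act_conj hdz hc, hact]
    conv_rhs => rw [← (F.data.act_cancel hdz v).2, hr']
    unfold rf
    rw [hiso.polar]
    cases b8 (F.data.act (d : G)⁻¹ v) r <;> simp [hiso.add]
  have hrs' : b8 r' s0 = false := by
    have h := hS'.2.1
    rw [hact', rf] at h
    rw [b8_comm]
    cases hb : b8 s0 r'
    · rfl
    · simp only [hb, if_true] at h
      rw [left_eq_add.1 h.symm] at hr'q
      exact absurd hr'q (by decide)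
  have := hS'.2.2
  rw [show F.data.act ((d : G) * c * (d : G)⁻¹) = rf r' from funext hact'] at this
  exact rf_code r' hr'q hrs' this

/-- The induced permutations are exactly the even ones. -/
theorem range_ptHom [Finite G] (F : Frame z Q π P s) (hS : SideData E S) (hlen : E.length = 4) :
    (ptHom F.data hS).range = alternatingGroup (Pt S) := by
  refine le_antisymm ?_ (alternating_le_range F.data hS hlen)
  rintro _ ⟨h, rfl⟩
  rw [Equiv.Perm.mem_alternatingGroup]
  rcases Int.units_eq_one_or (Equiv.Perm.sign (ptHom F.data hS h)) with hs | hs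
  · exact hs
  exfalso
  obtain ⟨a, ha, b, hb, hab, hr⟩ := hS.basic
  have hne : (⟨a, ha⟩ : Pt S) ≠ ⟨b, hb⟩ := fun e => hab (congrArg Subtype.val e)
  obtain ⟨g, hg⟩ := alternating_le_range F.data hS hlen
    (Equiv.Perm.mem_alternatingGroup.2 (show Equiv.Perm.sign (Equiv.swap (⟨a, ha⟩ : Pt S) ⟨b, hb⟩ *
      (ptHom F.data hS h)⁻¹) = 1 by rw [map_mul, map_inv, hs, Equiv.Perm.sign_swap hne]; decide))
  have hsw : ptHom F.data hS (g * h) = Equiv.swap (⟨a, ha⟩ : Pt S) ⟨b, hb⟩ := by
    rw [map_mul, hg, inv_mul_cancel_right]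
  obtain ⟨hq, h1, h2, h3, hf⟩ := hS.root a ha b hb hab
  have hact : ∀ v, F.data.act ((g * h : CE F.data E) : G) v = rf (a + b) v :=
    hS.ext (F.data.act_iso (comm_z F.data (g * h).2)) (isIso8_rf hq) (fun e he => by
      rw [← ptHom_apply F.data hS _ ⟨e, he⟩, hsw]
      rcases eq_or_ne e a with rfl | hea
      · rw [Equiv.swap_apply_left, h1]
      rcases eq_or_ne e b with rfl | heb
      · rw [Equiv.swap_apply_right, h2]
      · rw [Equiv.swap_apply_of_ne_of_ne (fun e' => hea (congrArg Subtype.val e'))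
          (fun e' => heb (congrArg Subtype.val e')), h3 e he hea heb])
      fun e he => by rw [CE_fix F.data (g * h).2 he, hf e he]
  rw [no_reflection F (comm_z F.data (g * h).2) hq hact] at hr
  exact Bool.noConfusion hr

/-- Every element is a product of commutators up to `Q`. -/
theorem exists_commutator [Finite G] (F : Frame z Q π P s) (hS : SideData E S) (hlen : E.length = 4)
    (h : CE F.data E) :
    ∃ c ∈ (⁅CE F.data E, CE F.data E⁆ : Subgroup G), c⁻¹ * (h : G) ∈ Q := by
  classical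
  have h5 : 5 ≤ Nat.card (Pt S) := by rw [Nat.card_eq_fintype_card, hS.card_pt]
  have himg : ptHom F.data hS h ∈ Subgroup.map (ptHom F.data hS) ⁅(⊤ : Subgroup (CE F.data E)), ⊤⁆ := by
    rw [Subgroup.map_commutator, ← MonoidHom.range_eq_map, range_ptHom F hS hlen,
      commutator_alternatingGroup_eq_self h5]
    exact range_ptHom F hS hlen ▸ ⟨h, rfl⟩
  obtain ⟨c, hc, hch⟩ := himg
  refine ⟨c, ?_, ?_⟩
  · have : (c : G) ∈ Subgroup.map (CE F.data E).subtype ⁅⊤, ⊤⁆ := ⟨c, hc, rfl⟩
    rwa [Subgroup.map_commutator, ← MonoidHom.range_eq_map, Subgroup.range_subtype] at this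
  · exact (ptHom_eq_one F.data hS (c⁻¹ * h)).1 (by rw [map_mul, map_inv, hch, inv_mul_cancel])

end CfsgLib.ConwayFive
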